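import Mathlib.GroupTheory.SpecificGroups.Alternating
import Mathlib.GroupTheory.Perm.Support

/-!
In the alternating group of degree at least six every involution is a product of squares of
elements centralising it. Owner: helper7.
-/

set_option autoImplicit false
set_option linter.unusedFintypeInType false

namespace Cfsg.Agent.Lib.TwoTimesAlt

open Equiv

variable {α : Type*} [Fintype α] [DecidableEq α]

/-- The squares of the even permutations commuting with `x`. -/
def commSquares (x : Perm α) : Subgroup (Perm α) :=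
  Subgroup.closure {s | ∃ c : Perm α, Perm.sign c = 1 ∧ Commute c x ∧ s = c * c}

theorem invol_apply {x : Perm α} (hx : x * x = 1) (z : α) : x (x z) = z := by
  rw [← Perm.mul_apply, hx, Perm.one_apply]

theorem exists_pair (hcard : 6 ≤ Fintype.card α) {x : Perm α} (hx : x * x = 1)
    {a b c d : α} (hab : x a = b) (hcd : x c = d) :
    ∃ e f : α, e ≠ f ∧ ((x e = f ∧ x f = e) ∨ (x e = e ∧ x f = f)) ∧
      e ≠ a ∧ e ≠ b ∧ e ≠ c ∧ e ≠ d ∧ f ≠ a ∧ f ≠ b ∧ f ≠ c ∧ f ≠ d := by
  classical
  set T : Finset α := Finset.univ \ {a, b, c, d} with hT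
  have h4 : ({a, b, c, d} : Finset α).card ≤ 4 := Finset.card_le_four
  have h2 : 1 < T.card := by
    rw [hT, Finset.card_sdiff_of_subset (Finset.subset_univ _), Finset.card_univ]
    omega
  have hmem : ∀ z, z ∈ T ↔ z ≠ a ∧ z ≠ b ∧ z ≠ c ∧ z ≠ d := by
    intro z
    simp [hT]
  by_cases hm : ∃ e ∈ T, x e ≠ e
  · obtain ⟨e, he, hxe⟩ := hm
    obtain ⟨h1, h2, h3, h4⟩ := (hmem e).1 he
    have hba : x b = a := by rw [← hab, invol_apply hx]
    have hdc : x d = c := by rw [← hcd, invol_apply hx]
    have hinj := x.injective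
    exact ⟨e, x e, fun h => hxe h.symm, Or.inl ⟨rfl, invol_apply hx e⟩, h1, h2, h3, h4,
      fun h => h2 (hinj (h.trans hba.symm)), fun h => h1 (hinj (h.trans hab.symm)),
      fun h => h4 (hinj (h.trans hdc.symm)), fun h => h3 (hinj (h.trans hcd.symm))⟩
  · push Not at hm
    obtain ⟨e, he, f, hf, hef⟩ := Finset.one_lt_card.1 h2
    obtain ⟨h1, h2, h3, h4⟩ := (hmem e).1 he
    obtain ⟨k1, k2, k3, k4⟩ := (hmem f).1 hf
    exact ⟨e, f, hef, Or.inr ⟨hm e he, hm f hf⟩, h1, h2, h3, h4, k1, k2, k3, k4⟩

/-- A product of two transpositions occurring in an involution is a square of an even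
permutation commuting with it. -/
theorem swap_swap_mem (hcard : 6 ≤ Fintype.card α) {x : Perm α} (hx : x * x = 1)
    {a b c d : α} (hab : x a = b) (hcd : x c = d)
    (h1 : a ≠ b) (h2 : c ≠ d) (h3 : c ≠ a) (h4 : c ≠ b) :
    swap a b * swap c d ∈ commSquares x := by
  have hba : x b = a := by rw [← hab, invol_apply hx]
  have hdc : x d = c := by rw [← hcd, invol_apply hx]
  have h5 : d ≠ a := fun h => h4 (by rw [← hdc, h, hab])
  have h6 : d ≠ b := fun h => h3 (by rw [← hdc, h, hba])
  obtain ⟨e, f, hef, hxef, e1, e2, e3, e4, f1, f2, f3, f4⟩ := exists_pair hcard hx hab hcd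
  have hdisj : ∀ {p q r t : α}, p ≠ r → p ≠ t → q ≠ r → q ≠ t →
      Commute (swap p q) (swap r t) := by
    intro p q r t k1 k2 k3 k4
    show swap p q * swap r t = swap r t * swap p q
    rw [mul_swap_eq_swap_mul, swap_apply_of_ne_of_ne k1.symm k3.symm,
      swap_apply_of_ne_of_ne k2.symm k4.symm]
  set τ : Perm α := swap a c * swap b d with hτ
  set σ : Perm α := τ * swap a b * swap e f with hσ
  have hac : Commute (swap a c) (swap b d) := hdisj h1 h5.symm h4 h2
  refine Subgroup.subset_closure ⟨σ, ?_, ?_, ?_⟩
  · simp [hσ, hτ, Perm.sign_swap, h1, hef, h3.symm, h6.symm]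
  · show σ * x = x * σ
    have hs : ∀ p q : α, x * swap p q = swap (x p) (x q) * x :=
      fun p q => mul_swap_eq_swap_mul x p q
    have hxf : x * swap e f = swap e f * x := by
      rcases hxef with ⟨he, hf⟩ | ⟨he, hf⟩
      · rw [hs, he, hf, swap_comm]
      · rw [hs, he, hf]
    have hxw : x * swap a b = swap a b * x := by rw [hs, hab, hba, swap_comm]
    have hxt : x * τ = τ * x := by
      rw [hτ, ← mul_assoc, hs, hab, hcd, mul_assoc, hs, hba, hdc, ← mul_assoc, hac.symm.eq]
    rw [hσ, ← mul_assoc x, ← mul_assoc x, hxt, mul_assoc τ x, hxw, ← mul_assoc τ,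
      mul_assoc (τ * swap a b) x, hxf, ← mul_assoc]
  · have hwτ : τ * swap a b = swap c d * τ := by
      rw [hτ, mul_swap_eq_swap_mul]
      congr 2
      · rw [Perm.mul_apply, swap_apply_of_ne_of_ne h1 h5.symm, swap_apply_left]
      · rw [Perm.mul_apply, swap_apply_left, swap_apply_of_ne_of_ne h5 h2.symm]
    have hττ : τ * τ = 1 := by
      rw [hτ, mul_assoc, ← mul_assoc (swap b d), hac.symm.eq, mul_assoc (swap a c) (swap b d),
        swap_mul_self, mul_one, swap_mul_self]
    have hse : Commute (swap e f) (τ * swap a b) := by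
      refine Commute.mul_right (Commute.mul_right ?_ ?_) ?_
      · exact hdisj e1 e3 f1 f3
      · exact hdisj e2 e4 f2 f4
      · exact hdisj e1 e2 f1 f2
    show swap a b * swap c d = σ * σ
    rw [hσ, mul_assoc (τ * swap a b), ← mul_assoc (swap e f), hse.eq,
      mul_assoc (τ * swap a b) (swap e f), swap_mul_self, mul_one]
    nth_rw 1 [hwτ]
    rw [mul_assoc (swap c d), ← mul_assoc τ, hττ, one_mul]
    exact (hdisj h3.symm h5.symm h4.symm h6.symm).eq

/-- An even permutation made of cycles of the involution `x` is in `commSquares x`. -/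
theorem mem_commSquares_of_agree (hcard : 6 ≤ Fintype.card α) {x : Perm α} (hx : x * x = 1) :
    ∀ (n : ℕ) (y : Perm α), y.support.card ≤ n → Perm.sign y = 1 →
      (∀ z, y z ≠ z → y z = x z) → y ∈ commSquares x := by
  intro n
  induction n using Nat.strong_induction_on with
  | _ n ih =>
    intro y hn hs hy
    by_cases hy1 : y = 1
    · rw [hy1]; exact Subgroup.one_mem _
    obtain ⟨a, ha⟩ : ∃ a, y a ≠ a := by
      by_contra h
      push Not at h
      exact hy1 (Perm.ext h)
    set b := y a with hb
    have hab : x a = b := (hy a ha).symm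
    have hba : x b = a := by rw [← hab, invol_apply hx]
    have hyb : y b = a := by
      rw [hy b (fun h => ha (y.injective h)), hba]
    obtain ⟨c, hc, hca, hcb⟩ : ∃ c, y c ≠ c ∧ c ≠ a ∧ c ≠ b := by
      by_contra h
      push Not at h
      have heq : y = swap a b := by
        ext z
        by_cases za : z = a
        · subst za; rw [swap_apply_left]
        by_cases zb : z = b
        · subst zb; rw [swap_apply_right, hyb]
        rw [swap_apply_of_ne_of_ne za zb]
        by_contra hz
        exact zb (h z hz za)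
      rw [heq, Perm.sign_swap (fun h => ha h.symm)] at hs
      exact absurd hs (by decide)
    set d := y c with hd
    have hcd : x c = d := (hy c hc).symm
    have hdc : x d = c := by rw [← hcd, invol_apply hx]
    have hyd : y d = c := by
      rw [hy d (fun h => hc (y.injective h)), hdc]
    have hne : a ≠ b := fun h => ha h.symm
    have hne2 : c ≠ d := fun h => hc h.symm
    have hda : d ≠ a := fun h => hcb (by rw [← hdc, h, hab])
    have hdb : d ≠ b := fun h => hca (by rw [← hdc, h, hba])
    set q := swap a b * swap c d with hq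
    have hval : ∀ z, (q * y) z = z ∨ (z ≠ a ∧ z ≠ b ∧ z ≠ c ∧ z ≠ d ∧ (q * y) z = y z) := by
      intro z
      by_cases za : z = a
      · subst za
        left; simp [hq, ← hb, swap_apply_def, hne.symm, hcb.symm, hdb.symm, hca.symm, hda.symm]
      by_cases zb : z = b
      · subst zb
        left; simp [hq, hyb, swap_apply_def, hne, hca.symm, hda.symm]
      by_cases zc : z = c
      · subst zc
        left; simp [hq, ← hd, swap_apply_def, hne2.symm, hca, hcb]
      by_cases zd : z = d
      · subst zd
        left; simp [hq, hyd, swap_apply_def, hda, hdb]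
      right
      refine ⟨za, zb, zc, zd, ?_⟩
      have h1 : y z ≠ a := fun h => zb (y.injective (h.trans hyb.symm))
      have h2 : y z ≠ b := fun h => za (y.injective (h.trans hb))
      have h3 : y z ≠ c := fun h => zd (y.injective (h.trans hyd.symm))
      have h4 : y z ≠ d := fun h => zc (y.injective (h.trans hd))
      rw [Perm.mul_apply, hq, Perm.mul_apply, swap_apply_of_ne_of_ne h3 h4,
        swap_apply_of_ne_of_ne h1 h2]
    have hlt : (q * y).support.card < y.support.card := by
      refine Finset.card_lt_card ((Finset.ssubset_iff_of_subset ?_).2 ⟨a, ?_, ?_⟩)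
      · intro z hz
        rw [Perm.mem_support] at hz ⊢
        rcases hval z with h | ⟨-, -, -, -, h⟩
        · exact absurd h hz
        · rwa [h] at hz
      · exact Perm.mem_support.2 ha
      · intro hz
        rw [Perm.mem_support] at hz
        rcases hval a with h | ⟨h, -⟩
        · exact hz h
        · exact h rfl
    have hsq : Perm.sign (q * y) = 1 := by
      rw [map_mul, hs, mul_one, hq, map_mul, Perm.sign_swap hne, Perm.sign_swap hne2]
      rfl
    have hagree : ∀ z, (q * y) z ≠ z → (q * y) z = x z := by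
      intro z hz
      rcases hval z with h | ⟨-, -, -, -, h⟩
      · exact absurd h hz
      · rw [h] at hz ⊢
        exact hy z hz
    have h1 := ih _ (lt_of_lt_of_le hlt hn) (q * y) le_rfl hsq hagree
    have h2 : q ∈ commSquares x := swap_swap_mem hcard hx hab hcd hne hne2 hca hcb
    have := Subgroup.mul_mem _ (Subgroup.inv_mem _ h2) h1
    rwa [inv_mul_cancel_left] at this

theorem mem_commSquares (hcard : 6 ≤ Fintype.card α) {x : Perm α} (hx : x * x = 1)
    (hs : Perm.sign x = 1) : x ∈ commSquares x :=
  mem_commSquares_of_agree hcard hx _ x le_rfl hs fun _ _ => rfl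

end Cfsg.Agent.Lib.TwoTimesAlt
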