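import Cfsg.Prelude.Def_SporadicB
import Cfsg.Prelude.Def_TwoFusion
import Cfsg.Agent.Lib.Fusion.Thompson
import Cfsg.Agent.Lib.TwoTimesAlt.AltSquares
import Mathlib.GroupTheory.NoncommCoprod

/-!
An involution centraliser `⟨J⟩ × A_m` in a group without normal subgroup of index two: `m` is
four or five, and every involution is conjugate into the alternating factor.
Owner: helper7.
-/

set_option autoImplicit false

namespace Cfsg.Agent.Lib.TwoTimesAlt

open Subgroup

variable {G : Type*} [Group G] [Finite G]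

/-- The data of the centraliser. -/
structure Data (G : Type*) [Group G] (m : ℕ) where
  J : G
  T : Subgroup G
  S : Sylow 2 G
  orderJ : orderOf J = 2
  e : T ≃* alternatingGroup (Fin m)
  le_cent : T ≤ centralizer ({J} : Set G)
  notMem : J ∉ T
  mem_iff : ∀ c : G, c ∈ centralizer ({J} : Set G) ↔ c ∈ T ∨ J * c ∈ T
  sylow_le : (S : Subgroup G) ≤ centralizer ({J} : Set G)
  mem_S : J ∈ (S : Subgroup G)
  noIndexTwo : ∀ N : Subgroup G, N.index ≠ 2

variable {m : ℕ}

theorem nonempty_data (h2 : ∀ N : Subgroup G, N.Normal → N.index ≠ 2)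
    (J : G) (hJ : Cfsg.IsTwoCentralInvolution J) (T : Subgroup G)
    (hT : Nonempty (↥T ≃* ↥(alternatingGroup (Fin m))))
    (hd : Cfsg.IsInternalDirectProduct (zpowers J) T (centralizer ({J} : Set G))) :
    ∃ d : Data G m, d.J = J := by
  obtain ⟨hJo, P, hJP, hP⟩ := hJ
  obtain ⟨e⟩ := hT
  obtain ⟨h1, h2', hcomm, hinf, hsup⟩ := hd
  have hJJ : J * J = 1 := by rw [← pow_two, ← hJo, pow_orderOf_eq_one]
  have hJT : J ∉ T := fun h => by
    have : J ∈ (⊥ : Subgroup G) := hinf ▸ ⟨mem_zpowers J, h⟩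
    rw [mem_bot] at this
    rw [this, orderOf_one] at hJo
    omega
  have hc : ∀ b ∈ T, J * b = b * J := fun b hb => hcomm J (mem_zpowers J) b hb
  refine ⟨⟨J, T, P, hJo, e, h2', hJT, fun c => ⟨fun hcC => ?_, fun h => ?_⟩,
    fun x hx => mem_centralizer_singleton_iff.2 (hP x hx), hJP,
    fun N hN => h2 N (Subgroup.normal_of_index_eq_two hN) hN⟩, rfl⟩
  · have hcJ : ∀ a : G, J * a ∈ T → J * a = a * J := by
      intro a ha
      have h5 := hc _ ha
      rw [← mul_assoc, hJJ, one_mul] at h5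
      calc J * a = J * (J * a * J) := by rw [← h5]
        _ = a * J := by rw [← mul_assoc, ← mul_assoc, hJJ, one_mul]
    rw [← hsup] at hcC
    have hinv : J⁻¹ = J := inv_eq_of_mul_eq_one_right hJJ
    rw [sup_eq_closure] at hcC
    induction hcC using Subgroup.closure_induction with
    | mem x hx =>
      rcases hx with hx | hx
      · obtain ⟨k, rfl⟩ := hx
        rcases Int.even_or_odd k with ⟨r, rfl⟩ | ⟨r, rfl⟩
        · left
          show J ^ (r + r) ∈ T
          rw [zpow_add, ← (Commute.refl J).mul_zpow, hJJ, one_zpow]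
          exact T.one_mem
        · right
          show J * J ^ (2 * r + 1) ∈ T
          rw [zpow_add_one, two_mul, zpow_add, ← (Commute.refl J).mul_zpow, hJJ, one_zpow,
            one_mul, hJJ]
          exact T.one_mem
      · exact Or.inl hx
    | one => exact Or.inl T.one_mem
    | mul a b _ _ iha ihb =>
      rcases iha with ha | ha <;> rcases ihb with hb | hb
      · exact Or.inl (mul_mem ha hb)
      · right
        rw [← mul_assoc, hc a ha, mul_assoc]
        exact mul_mem ha hb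
      · right
        rw [← mul_assoc]
        exact mul_mem ha hb
      · left
        have : a * b = (J * a) * (J * b) := by
          rw [hcJ a ha, mul_assoc, ← mul_assoc J J b, hJJ, one_mul]
        rw [this]
        exact mul_mem ha hb
    | inv a _ iha =>
      rcases iha with ha | ha
      · exact Or.inl (inv_mem ha)
      · right
        have h4 : J * a⁻¹ = (J * a)⁻¹ := by
          rw [hcJ a ha, mul_inv_rev, inv_eq_of_mul_eq_one_right hJJ]
        rw [h4]
        exact inv_mem ha
  · rcases h with h | h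
    · exact h2' h
    · have := mul_mem (h1 (mem_zpowers J)) (h2' h)
      rwa [← mul_assoc, hJJ, one_mul] at this

namespace Data

variable (d : Data G m)

theorem JJ : d.J * d.J = 1 := by rw [← pow_two, ← d.orderJ, pow_orderOf_eq_one]

theorem J_ne_one : d.J ≠ 1 := fun h => by
  have := d.orderJ
  rw [h, orderOf_one] at this
  omega

theorem commute_J {c : G} (hc : c ∈ centralizer ({d.J} : Set G)) : Commute d.J c :=
  (mem_centralizer_singleton_iff.1 hc).symm

theorem J_mem_cent : d.J ∈ centralizer ({d.J} : Set G) := mem_centralizer_singleton_iff.2 rfl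

theorem mul_mem_iff_of_notMem {a b : G} (ha : a ∈ centralizer ({d.J} : Set G)) (haT : a ∉ d.T)
    (hb : b ∈ centralizer ({d.J} : Set G)) : a * b ∈ d.T ↔ b ∉ d.T := by
  have ha' : d.J * a ∈ d.T := ((d.mem_iff a).1 ha).resolve_left haT
  constructor
  · intro h hbT
    exact haT (by simpa using mul_mem h (inv_mem hbT))
  · intro hbT
    have hb' : d.J * b ∈ d.T := ((d.mem_iff b).1 hb).resolve_left hbT
    have : a * b = d.J * a * (d.J * b) := by
      rw [(d.commute_J ha).eq, mul_assoc, ← mul_assoc d.J d.J, d.JJ, one_mul]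
    rw [this]
    exact mul_mem ha' hb'

theorem sq_mem {c : G} (hc : c ∈ centralizer ({d.J} : Set G)) : c * c ∈ d.T := by
  by_cases h : c ∈ d.T
  · exact mul_mem h h
  · exact (d.mul_mem_iff_of_notMem hc h hc).2 h

theorem relIndex_eq : ((d.S : Subgroup G) ⊓ d.T).relIndex (d.S : Subgroup G) = 2 := by
  rw [inf_relIndex_left, relIndex, index_eq_two_iff]
  refine ⟨⟨d.J, d.mem_S⟩, fun b => ?_⟩
  simp only [mem_subgroupOf, Subgroup.coe_mul]
  have hb := d.sylow_le b.2
  rw [← (d.commute_J hb).eq, d.mul_mem_iff_of_notMem d.J_mem_cent d.notMem hb]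
  by_cases h : (b : G) ∈ d.T <;> simp [h, Xor']

/-- Every involution is conjugate into the alternating factor. -/
theorem exists_conj_mem (t : G) (ht : orderOf t = 2) :
    ∃ g : G, g * t * g⁻¹ ∈ (d.S : Subgroup G) ⊓ d.T :=
  Fusion.Thompson.exists_conj_mem_maximal d.S _ inf_le_left d.relIndex_eq d.noIndexTwo t ht

include d in
theorem four_le : 4 ≤ m := by
  by_contra hm
  obtain ⟨g, -, hg⟩ := exists_conj_mem d d.J d.orderJ
  have h1 : orderOf (⟨_, hg⟩ : d.T) = 2 := by
    rw [← Subgroup.orderOf_coe]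
    simpa using (SemiconjBy.orderOf_eq g (show SemiconjBy g d.J (g * d.J * g⁻¹) by
      simp [SemiconjBy])).symm.trans d.orderJ
  have h2 := (MulEquiv.orderOf_eq d.e _).trans h1
  have h3 : ∀ k : ℕ, k < 4 → ∀ a : alternatingGroup (Fin k), a ^ 2 = 1 → a = 1 := by
    decide +kernel
  have h4 := h3 m (by omega) _ (by rw [← h2]; exact pow_orderOf_eq_one _)
  rw [h4, orderOf_one] at h2
  omega

include d in
theorem le_five : m ≤ 5 := by
  by_contra hm
  obtain ⟨g, -, hg⟩ := exists_conj_mem d d.J d.orderJ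
  set x : G := g * d.J * g⁻¹ with hx
  set σ : Equiv.Perm (Fin m) := ((d.e ⟨x, hg⟩ : alternatingGroup (Fin m)) : Equiv.Perm (Fin m))
  have hxx : (⟨x, hg⟩ : d.T) * ⟨x, hg⟩ = 1 := Subtype.ext (by
    show x * x = 1
    rw [hx, show g * d.J * g⁻¹ * (g * d.J * g⁻¹) = g * (d.J * d.J) * g⁻¹ by group, d.JJ, mul_one,
      mul_inv_cancel])
  have hσ : σ * σ = 1 := by
    show ((d.e ⟨x, hg⟩ : alternatingGroup (Fin m)) : Equiv.Perm (Fin m)) * _ = 1
    rw [← Subgroup.coe_mul, ← map_mul, hxx, map_one, OneMemClass.coe_one]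
  have hsign : ∀ a : alternatingGroup (Fin m), Equiv.Perm.sign (a : Equiv.Perm (Fin m)) = 1 :=
    fun a => Equiv.Perm.mem_alternatingGroup.1 a.2
  have hmem := mem_commSquares (x := σ) (by rw [Fintype.card_fin]; omega) hσ (hsign _)
  -- transport to the factor and conjugate back onto `J`
  let φ : alternatingGroup (Fin m) →* G :=
    ((MulAut.conj g⁻¹).toMonoidHom.comp d.T.subtype).comp d.e.symm.toMonoidHom
  have hφσ : φ (d.e ⟨x, hg⟩) = d.J := by
    simp [φ, hx, mul_assoc]
  have key : ∀ y : Equiv.Perm (Fin m), y ∈ commSquares σ →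
      ∃ hy : y ∈ alternatingGroup (Fin m), φ ⟨y, hy⟩ ∈ d.T := by
    intro y hy
    induction hy using Subgroup.closure_induction with
    | mem s hs =>
      obtain ⟨c, hc, hcomm, rfl⟩ := hs
      have hcA : c ∈ alternatingGroup (Fin m) := Equiv.Perm.mem_alternatingGroup.2 hc
      refine ⟨mul_mem hcA hcA, ?_⟩
      rw [show (⟨c * c, mul_mem hcA hcA⟩ : alternatingGroup (Fin m)) = ⟨c, hcA⟩ * ⟨c, hcA⟩ from rfl,
        map_mul]
      refine d.sq_mem (mem_centralizer_singleton_iff.2 ?_)
      rw [← hφσ, ← map_mul, ← map_mul]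
      exact congrArg φ (Subtype.ext hcomm.eq)
    | one => exact ⟨one_mem _, by
        rw [show (⟨1, one_mem _⟩ : alternatingGroup (Fin m)) = 1 from rfl, map_one]
        exact d.T.one_mem⟩
    | mul a b _ _ iha ihb =>
      obtain ⟨ha, ha'⟩ := iha
      obtain ⟨hb, hb'⟩ := ihb
      exact ⟨mul_mem ha hb, by
        rw [show (⟨a * b, mul_mem ha hb⟩ : alternatingGroup (Fin m)) = ⟨a, ha⟩ * ⟨b, hb⟩ from rfl,
          map_mul]
        exact mul_mem ha' hb'⟩
    | inv a _ iha =>
      obtain ⟨ha, ha'⟩ := iha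
      exact ⟨inv_mem ha, by
        rw [show (⟨a⁻¹, inv_mem ha⟩ : alternatingGroup (Fin m)) = ⟨a, ha⟩⁻¹ from rfl, map_inv]
        exact inv_mem ha'⟩
  obtain ⟨hy, hy'⟩ := key σ hmem
  exact d.notMem (hφσ ▸ hy')

/-- The centraliser is the direct product. -/
theorem nonempty_mulEquiv :
    Nonempty (centralizer ({d.J} : Set G) ≃* Multiplicative (ZMod 2) × alternatingGroup (Fin m)) := by
  have hcard : Nat.card (zpowers d.J) = 2 := by rw [Nat.card_zpowers, d.orderJ]
  haveI : Fact (Nat.Prime 2) := ⟨Nat.prime_two⟩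
  let f : zpowers d.J →* centralizer ({d.J} : Set G) :=
    inclusion (zpowers_le.2 d.J_mem_cent)
  let g : d.T →* centralizer ({d.J} : Set G) := inclusion d.le_cent
  have hfg : ∀ (a : zpowers d.J) (b : d.T), Commute (f a) (g b) := by
    rintro ⟨a, k, rfl⟩ b
    exact Subtype.ext (((d.commute_J (d.le_cent b.2)).zpow_left k).eq)
  let Φ := MonoidHom.noncommCoprod f g hfg
  have hinj : Function.Injective Φ := by
    rw [injective_iff_map_eq_one]
    rintro ⟨⟨a, k, rfl⟩, b⟩ hab
    have h1 : d.J ^ k * (b : G) = 1 := congrArg Subtype.val hab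
    rcases Int.even_or_odd k with ⟨r, rfl⟩ | ⟨r, rfl⟩
    · have h2 : d.J ^ (r + r) = 1 := by
        rw [zpow_add, ← (Commute.refl d.J).mul_zpow, d.JJ, one_zpow]
      rw [h2, one_mul] at h1
      exact Prod.ext (Subtype.ext h2) (Subtype.ext h1)
    · exfalso
      have h2 : d.J ^ (2 * r + 1) = d.J := by
        rw [zpow_add_one, two_mul, zpow_add, ← (Commute.refl d.J).mul_zpow, d.JJ, one_zpow, one_mul]
      rw [h2] at h1
      exact d.notMem (eq_inv_of_mul_eq_one_left h1 ▸ inv_mem b.2)
  have hsurj : Function.Surjective Φ := by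
    rintro ⟨c, hc⟩
    rcases (d.mem_iff c).1 hc with h | h
    · exact ⟨(1, ⟨c, h⟩), Subtype.ext (one_mul c)⟩
    · refine ⟨(⟨d.J, mem_zpowers _⟩, ⟨_, h⟩), Subtype.ext ?_⟩
      show d.J * (d.J * c) = c
      rw [← mul_assoc, d.JJ, one_mul]
  exact ⟨(MulEquiv.ofBijective Φ ⟨hinj, hsurj⟩).symm.trans
    (MulEquiv.prodCongr (mulEquivOfPrimeCardEq hcard (by simp)) d.e)⟩

theorem card_cent :
    Nat.card (centralizer ({d.J} : Set G)) = 2 * Nat.card (alternatingGroup (Fin m)) := by
  obtain ⟨f⟩ := d.nonempty_mulEquiv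
  rw [Nat.card_congr f.toEquiv, Nat.card_prod]
  simp

end Data

end Cfsg.Agent.Lib.TwoTimesAlt
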