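import Cfsg.Agent.Lib.Fusion.Swappers

/-!
Counting with a strongly embedded subgroup of order 168 with seven involutions: the group has
order 1512 and its elements of order seven are self-centralising. Owner: helper7.
-/

set_option autoImplicit false
set_option linter.style.haveILetI false

open Subgroup

namespace Cfsg.Agent.Lib.TwoTimesAlt.Count

open Cfsg.Agent.Lib.Fusion

variable {G : Type*} [Group G] [Finite G]

/-- The hypotheses. -/
structure Hyp (G : Type*) [Group G] where
  M : Subgroup G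
  S : Subgroup G
  se : Cfsg.IsStronglyEmbedded M
  cardM : Nat.card M = 168
  cardS : Nat.card S = 8
  S_le : S ≤ M
  le_norm : M ≤ normalizer (S : Set G)
  self_cent : centralizer (S : Set G) = S
  inv_mem_S : ∀ t ∈ M, orderOf t = 2 → t ∈ S
  sq_S : ∀ x ∈ S, x * x = 1
  not_seven : ∀ t c : G, orderOf t = 2 → orderOf c = 7 → c * t ≠ t * c

variable (h : Hyp G)

include h in
theorem card_inv : Nat.card (Swappers.Inv h.M) = 7 := by
  have e : Swappers.Inv h.M ≃ {x : h.S // x ≠ 1} :=
    { toFun := fun t => ⟨⟨t.1, h.inv_mem_S _ t.2.2 t.2.1⟩, fun h1 => by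
        have h2 : t.1 = 1 := congrArg Subtype.val h1
        have := t.2.1
        rw [h2, orderOf_one] at this
        omega⟩
      invFun := fun x => ⟨x.1.1, orderOf_eq_prime (p := 2) (hp := ⟨Nat.prime_two⟩)
        (by rw [pow_two]; exact h.sq_S _ x.1.2) (fun h1 => x.2 (Subtype.ext h1)), h.S_le x.1.2⟩
      left_inv := fun t => rfl
      right_inv := fun x => rfl }
  classical
  haveI := Fintype.ofFinite h.S
  rw [Nat.card_congr e, Nat.card_eq_fintype_card, Fintype.card_subtype_compl,
    Fintype.card_subtype_eq, ← Nat.card_eq_fintype_card, h.cardS]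

include h in
theorem card_stab (x : G ⧸ h.M) : Nat.card (MulAction.stabilizer G x) = 168 := by
  have h1 := card_mul_index (MulAction.stabilizer G x)
  rw [MulAction.index_stabilizer_of_transitive, ← index_eq_card] at h1
  have h2 := card_mul_index h.M
  rw [h.cardM, ← h1] at h2
  exact (Nat.eq_of_mul_eq_mul_right (Nat.pos_of_ne_zero index_ne_zero_of_finite) h2).symm

theorem smul_back {α : Type*} [MulAction G α] {w : G} {x y : α} (hw : orderOf w = 2)
    (hxy : w • x = y) : w • y = x := by
  rw [← hxy, ← mul_smul, ← pow_two, ← hw, pow_orderOf_eq_one, one_smul]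

/-- The stabiliser of two cosets. -/
def pairStab (x y : G ⧸ h.M) : Subgroup G := MulAction.stabilizer G x ⊓ MulAction.stabilizer G y

include h in
theorem odd_pairStab {x y : G ⧸ h.M} (hxy : x ≠ y) : Odd (Nat.card (pairStab h x y)) := by
  rw [← Nat.not_even_iff_odd]
  intro he
  haveI : Fact (Nat.Prime 2) := ⟨Nat.prime_two⟩
  obtain ⟨t, ht⟩ := exists_prime_orderOf_dvd_card' (G := pairStab h x y) 2 (even_iff_two_dvd.1 he)
  exact hxy (ExistsUnique.unique (Swappers.existsUnique_fixed h.se
    ((Subgroup.orderOf_coe t).trans ht)) t.2.1 t.2.2)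

include h in
theorem card_pairStab_le {x y : G ⧸ h.M} (hxy : x ≠ y) :
    Nat.card (pairStab h x y) ∣ 21 := by
  have h1 : Nat.card (pairStab h x y) ∣ 2 ^ 3 * 21 := by
    have := card_dvd_of_le (inf_le_left : pairStab h x y ≤ MulAction.stabilizer G x)
    rwa [card_stab] at this
  exact (Nat.Coprime.pow_right 3 (Nat.coprime_two_right.2 (odd_pairStab h hxy))).dvd_of_dvd_mul_left h1

include h in
theorem seven_le_pairStab {x y : G ⧸ h.M} (hxy : x ≠ y) :
    7 ≤ Nat.card (pairStab h x y) := by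
  have hc := Swappers.card_swap_pair h.se hxy
  rw [card_inv h] at hc
  haveI : Nonempty {i : G // orderOf i = 2 ∧ i • x = y} :=
    (Nat.card_pos_iff.1 (by omega)).1
  obtain ⟨w, hw, hwx⟩ := Classical.arbitrary {i : G // orderOf i = 2 ∧ i • x = y}
  rw [← hc]
  refine Nat.card_le_card_of_injective
    (fun i => (⟨w * i.1, mem_inf.2 ⟨?_, ?_⟩⟩ : pairStab h x y)) ?_
  · rw [MulAction.mem_stabilizer_iff, mul_smul, i.2.2]
    exact smul_back hw hwx
  · rw [MulAction.mem_stabilizer_iff, mul_smul, smul_back i.2.1 i.2.2, hwx]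
  · intro i j hij
    exact Subtype.ext (mul_left_cancel (congrArg Subtype.val hij))

include h in
/-- A pair stabiliser contains exactly one subgroup of order seven. -/
theorem exists_seven {x y : G ⧸ h.M} (hxy : x ≠ y) :
    ∃ R : Subgroup G, Nat.card R = 7 ∧ R ≤ pairStab h x y ∧
      ∀ R' : Subgroup G, Nat.card R' = 7 → R' ≤ pairStab h x y → R' = R := by
  have h1 := card_pairStab_le h hxy
  have h2 := seven_le_pairStab h hxy
  have h7 : 7 ∣ Nat.card (pairStab h x y) := by
    have h3 : Nat.card (pairStab h x y) ≤ 21 := Nat.le_of_dvd (by norm_num) h1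
    interval_cases hk : Nat.card (pairStab h x y) <;> omega
  haveI : Fact (Nat.Prime 7) := ⟨by norm_num⟩
  obtain ⟨r, hr⟩ := exists_prime_orderOf_dvd_card' (G := pairStab h x y) 7 h7
  refine ⟨zpowers (r : G), by rw [Nat.card_zpowers, Subgroup.orderOf_coe, hr],
    zpowers_le.2 r.2, fun R' hR' hle => ?_⟩
  set R := zpowers (r : G) with hR
  have hRc : Nat.card R = 7 := by rw [hR, Nat.card_zpowers, Subgroup.orderOf_coe, hr]
  by_contra hne
  have hinf : R' ⊓ R = ⊥ := by
    have h3 : Nat.card ↥(R' ⊓ R) ∣ 7 := hR' ▸ card_dvd_of_le inf_le_left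
    rcases (Nat.dvd_prime (by norm_num)).1 h3 with h4 | h4
    · exact Subgroup.eq_bot_of_card_eq _ h4
    · exfalso
      have e1 := eq_of_le_of_card_ge (inf_le_left : R' ⊓ R ≤ R') (by rw [h4, hR'])
      have e2 := eq_of_le_of_card_ge (inf_le_right : R' ⊓ R ≤ R) (by rw [h4, hRc])
      exact hne (e1.symm.trans e2)
  have hinj : Function.Injective (fun p : R' × R =>
      (⟨(p.1 : G) * p.2, mul_mem (hle p.1.2) (zpowers_le.2 r.2 p.2.2)⟩ : pairStab h x y)) :=
    fun a b hab => Subgroup.mul_injective_of_disjoint (disjoint_iff.2 hinf)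
      (congrArg Subtype.val hab)
  have h4 := Nat.card_le_card_of_injective _ hinj
  rw [Nat.card_prod, hR', hRc] at h4
  have := Nat.le_of_dvd (by norm_num) h1
  omega

/-- The cosets fixed by `R`. -/
def fixSet (R : Subgroup G) : Set (G ⧸ h.M) := {x | R ≤ MulAction.stabilizer G x}

include h in
/-- The involutions exchanging two fixed cosets of `R` normalise `R`. -/
theorem swapper_mem_normalizer {R : Subgroup G} (hR : Nat.card R = 7) {x y : G ⧸ h.M} (hxy : x ≠ y)
    (hx : x ∈ fixSet h R) (hy : y ∈ fixSet h R) {w : G} (hw : orderOf w = 2) (hwxy : w • x = y) :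
    w ∈ normalizer (R : Set G) := by
  obtain ⟨R₀, -, -, huniq⟩ := exists_seven h hxy
  have h0 : R = R₀ := huniq R hR (le_inf hx hy)
  rw [mem_normalizer_iff_map_conj_eq]
  refine (huniq (R.map (MulAut.conj w).toMonoidHom) ?_ ?_).trans h0.symm
  · rw [Nat.card_congr (R.equivMapOfInjective _ (MulAut.conj w).injective).toEquiv.symm, hR]
  · rintro _ ⟨r, hr, rfl⟩
    have hrx : r • x = x := hx hr
    have hry : r • y = y := hy hr
    have hwi : w⁻¹ = w := inv_eq_of_mul_eq_one_right (by rw [← pow_two, ← hw, pow_orderOf_eq_one])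
    refine mem_inf.2 ⟨?_, ?_⟩ <;>
      simp only [MulAction.mem_stabilizer_iff, MulEquiv.coe_toMonoidHom, MulAut.conj_apply, hwi,
        mul_smul]
    · rw [hwxy, hry, smul_back hw hwxy]
    · rw [smul_back hw hwxy, hrx, hwxy]

include h in
/-- In `M`, a subgroup of order seven has normaliser of order 21, and there are eight of them. -/
theorem sylow_seven_M (P : Sylow 7 h.M) :
    Nat.card (Sylow 7 h.M) = 8 ∧ Nat.card (normalizer ((P : Subgroup h.M) : Set h.M)) = 21 := by
  haveI : Fact (Nat.Prime 7) := ⟨by norm_num⟩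
  have hidx := Sylow.card_eq_index_normalizer P
  have hmod := card_sylow_modEq_one 7 h.M
  have hdvd := P.card_dvd_index
  have hP : Nat.card (P : Subgroup h.M) = 7 := by
    have h1 := card_mul_index (P : Subgroup h.M)
    rw [h.cardM] at h1
    obtain ⟨k, hk⟩ := P.2.exists_card_eq
    have hnd := P.not_dvd_index
    rw [hk] at h1 ⊢
    have : k ≤ 2 := by
      by_contra hc
      have : 7 ^ 3 ∣ 168 := (Nat.pow_dvd_pow 7 (show 3 ≤ k by omega)).trans ⟨_, h1.symm⟩
      norm_num at this
    interval_cases k <;> omega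
  have hindex : (P : Subgroup h.M).index = 24 := by
    have h1 := card_mul_index (P : Subgroup h.M)
    rw [hP, h.cardM] at h1; omega
  rw [hindex] at hdvd
  have hle : Nat.card (Sylow 7 h.M) ≤ 24 := Nat.le_of_dvd (by norm_num) hdvd
  have hcases : Nat.card (Sylow 7 h.M) = 1 ∨ Nat.card (Sylow 7 h.M) = 8 := by
    rw [Nat.ModEq] at hmod
    interval_cases hn : Nat.card (Sylow 7 h.M) <;> omega
  have hne : Nat.card (Sylow 7 h.M) ≠ 1 := by
    intro h1
    rw [h1] at hidx
    have hn : normalizer ((P : Subgroup h.M) : Set h.M) = ⊤ := index_eq_one.1 hidx.symm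
    set Q : Subgroup G := (P : Subgroup h.M).map h.M.subtype with hQ
    have hQc : Nat.card Q = 7 := by
      rw [hQ, Nat.card_congr ((P : Subgroup h.M).equivMapOfInjective _ h.M.subtype_injective).toEquiv.symm,
        hP]
    have hQS : Q ≤ centralizer (h.S : Set G) := by
      rintro _ ⟨q, hq, rfl⟩
      rw [mem_centralizer_iff]
      intro s hs
      have h2 : (⟨s, h.S_le hs⟩ : h.M) * q * (⟨s, h.S_le hs⟩ : h.M)⁻¹ ∈ (P : Subgroup h.M) :=
        (mem_normalizer_iff.1 (hn ▸ mem_top _) q).1 hq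
      have hc1 : s * (q : G) * s⁻¹ * (q : G)⁻¹ ∈ Q :=
        ⟨_, mul_mem h2 (inv_mem hq), rfl⟩
      have hc2 : s * (q : G) * s⁻¹ * (q : G)⁻¹ ∈ h.S := by
        rw [show s * (q : G) * s⁻¹ * (q : G)⁻¹ = s * ((q : G) * s⁻¹ * (q : G)⁻¹) by group]
        exact mul_mem hs ((mem_normalizer_iff.1 (h.le_norm q.2) s⁻¹).1 (inv_mem hs))
      have hbot : Q ⊓ h.S = ⊥ := by
        refine inf_eq_bot_of_coprime ?_
        rw [hQc, h.cardS]; norm_num
      have h3 : s * (q : G) * s⁻¹ * (q : G)⁻¹ = 1 := by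
        rw [← mem_bot, ← hbot]; exact ⟨hc1, hc2⟩
      show s * (q : G) = (q : G) * s
      calc s * (q : G) = (s * (q : G) * s⁻¹ * (q : G)⁻¹) * ((q : G) * s) := by group
        _ = (q : G) * s := by rw [h3, one_mul]
    rw [h.self_cent] at hQS
    have := card_dvd_of_le hQS
    rw [hQc, h.cardS] at this
    norm_num at this
  have h8 := hcases.resolve_left hne
  refine ⟨h8, ?_⟩
  have h2 := card_mul_index (normalizer ((P : Subgroup h.M) : Set h.M))
  have h3 : (normalizer ((P : Subgroup h.M) : Set h.M)).index = 8 := hidx.symm.trans h8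
  rw [h3, h.cardM] at h2
  omega

include h in
/-- `N_M(R)` has order 21 and `C_M(R) = R` for a subgroup `R` of order seven of `M`. -/
theorem normalizer_in_M {R : Subgroup G} (hR : Nat.card R = 7) (hle : R ≤ h.M) :
    Nat.card ↥(normalizer (R : Set G) ⊓ h.M) = 21 ∧
      Nat.card ↥(centralizer (R : Set G) ⊓ h.M) = 7 := by
  haveI : Fact (Nat.Prime 7) := ⟨by norm_num⟩
  have hR' : Nat.card (R.subgroupOf h.M) = 7 := by
    rw [Nat.card_congr (subgroupOfEquivOfLe hle).toEquiv, hR]
  let P : Sylow 7 h.M := Sylow.ofCard (R.subgroupOf h.M) (by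
    rw [hR', h.cardM, show (168 : ℕ) = 7 ^ 1 * 24 by norm_num,
      Nat.factorization_mul (by norm_num) (by norm_num), Finsupp.add_apply,
      Nat.factorization_pow, Finsupp.smul_apply, Nat.Prime.factorization_self (by norm_num),
      Nat.factorization_eq_zero_of_not_dvd (by norm_num : ¬ 7 ∣ 24)]
    norm_num)
  obtain ⟨-, hN⟩ := sylow_seven_M h P
  have hN21 : Nat.card ↥(normalizer (R : Set G) ⊓ h.M) = 21 := by
    rw [← hN]
    refine Nat.card_congr
      { toFun := fun x => ⟨⟨x.1, x.2.2⟩, ?_⟩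
        invFun := fun x => ⟨x.1.1, ⟨?_, x.1.2⟩⟩
        left_inv := fun x => rfl
        right_inv := fun x => rfl }
    · rw [mem_normalizer_iff]
      intro y
      exact mem_normalizer_iff.1 x.2.1 (y : G)
    · show ((x.1 : h.M) : G) ∈ normalizer (R : Set G)
      rw [mem_normalizer_iff]
      intro y
      constructor
      · intro hy
        exact (mem_normalizer_iff.1 x.2 ⟨y, hle hy⟩).1 hy
      · intro hy
        have hyM : y ∈ h.M := by
          have := mul_mem (mul_mem (inv_mem x.1.2) (hle hy)) x.1.2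
          rwa [show (x.1 : G)⁻¹ * ((x.1 : G) * y * (x.1 : G)⁻¹) * (x.1 : G) = y by group] at this
        exact (mem_normalizer_iff.1 x.2 ⟨y, hyM⟩).2 hy
  refine ⟨hN21, ?_⟩
  have hRc : R ≤ centralizer (R : Set G) := by
    haveI : IsCyclic R := isCyclic_of_prime_card (p := 7) hR
    letI := IsCyclic.commGroup (α := R)
    exact fun a ha => mem_centralizer_iff.2 fun b hb =>
      congrArg Subtype.val (mul_comm (⟨b, hb⟩ : R) ⟨a, ha⟩)
  have h7 : 7 ∣ Nat.card ↥(centralizer (R : Set G) ⊓ h.M) :=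
    hR ▸ card_dvd_of_le (le_inf hRc hle)
  have h21 : Nat.card ↥(centralizer (R : Set G) ⊓ h.M) ∣ 21 :=
    hN21 ▸ card_dvd_of_le (inf_le_inf_right _ (Subgroup.centralizer_le_normalizer _))
  by_contra hne
  have h3 : 3 ∣ Nat.card ↥(centralizer (R : Set G) ⊓ h.M) := by
    have := Nat.le_of_dvd (by norm_num) h21
    interval_cases hk : Nat.card ↥(centralizer (R : Set G) ⊓ h.M) <;> omega
  haveI : Fact (Nat.Prime 3) := ⟨Nat.prime_three⟩
  obtain ⟨c, hc⟩ := exists_prime_orderOf_dvd_card'
    (G := ↥(centralizer (R : Set G) ⊓ h.M)) 3 h3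
  have hc' : orderOf (c : G) = 3 := by rw [Subgroup.orderOf_coe, hc]
  obtain ⟨r, hr⟩ := exists_prime_orderOf_dvd_card' (G := R) 7 hR.symm.dvd
  have hr' : orderOf (r : G) = 7 := by rw [Subgroup.orderOf_coe, hr]
  have hrc : (r : G) * c = c * r := mem_centralizer_iff.1 c.2.1 r r.2
  -- the fixed points of `c` on `S` are invariant under `r`
  set F : Subgroup G := h.S ⊓ centralizer ({(c : G)} : Set G) with hF
  letI : MulAction (zpowers (c : G)) h.S :=
    MulAction.compHom h.S (show zpowers (c : G) →* Equiv.Perm h.S from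
      { toFun := fun s =>
          { toFun := fun a => ⟨(s : G) * a * (s : G)⁻¹,
              (mem_normalizer_iff.1 (zpowers_le.2 (h.le_norm c.2.2) s.2) a).1 a.2⟩
            invFun := fun a => ⟨(s : G)⁻¹ * a * (s : G), by
              have := (mem_normalizer_iff.1 (inv_mem (zpowers_le.2 (h.le_norm c.2.2) s.2)) a).1 a.2
              rwa [inv_inv] at this⟩
            left_inv := fun a => Subtype.ext (by simp [mul_assoc])
            right_inv := fun a => Subtype.ext (by simp [mul_assoc]) }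
        map_one' := Equiv.ext fun a => Subtype.ext (by simp)
        map_mul' := fun a b => Equiv.ext fun c => Subtype.ext (by simp [mul_assoc]) })
  have hmod := (IsPGroup.of_card (p := 3) (G := zpowers (c : G)) (n := 1)
    (by rw [Nat.card_zpowers, hc', pow_one])).card_modEq_card_fixedPoints h.S
  rw [h.cardS] at hmod
  obtain ⟨a, ha, ha1⟩ : ∃ a ∈ MulAction.fixedPoints (zpowers (c : G)) h.S, a ≠ 1 := by
    by_contra hc1
    push Not at hc1
    have : Subsingleton (MulAction.fixedPoints (zpowers (c : G)) h.S) :=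
      ⟨fun a b => Subtype.ext ((hc1 a a.2).trans (hc1 b b.2).symm)⟩
    have h5 : Nat.card (MulAction.fixedPoints (zpowers (c : G)) h.S) ≤ 1 :=
      Finite.card_le_one_iff_subsingleton.2 this
    have h6 : Nat.card (MulAction.fixedPoints (zpowers (c : G)) h.S) % 3 = 2 := by
      rw [← hmod]
    omega
  have haF : (a : G) ∈ F := by
    refine ⟨a.2, mem_centralizer_singleton_iff.2 ?_⟩
    have : (c : G) * a * (c : G)⁻¹ = a := congrArg Subtype.val (ha ⟨(c : G), mem_zpowers _⟩)
    exact (mul_inv_eq_iff_eq_mul.1 this).symm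
  have hao : orderOf (a : G) = 2 := orderOf_eq_prime (p := 2) (hp := ⟨Nat.prime_two⟩)
    (by rw [pow_two]; exact h.sq_S _ a.2) (fun h1 => ha1 (Subtype.ext h1))
  -- the seven conjugates of `a` under `r`
  have hmem : ∀ k : ℕ, (r : G) ^ k * a * ((r : G) ^ k)⁻¹ ∈ F := by
    intro k
    have hn := h.le_norm (hle r.2)
    refine ⟨(mem_normalizer_iff.1 (pow_mem hn k) a).1 a.2, mem_centralizer_singleton_iff.2 ?_⟩
    have h1 : Commute ((r : G) ^ k) (c : G) := Commute.pow_left hrc k
    have h2 : Commute (a : G) (c : G) := mem_centralizer_singleton_iff.1 haF.2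
    exact ((h1.mul_left h2).mul_left h1.inv_left).eq
  let f : Option (Fin 7) → F := fun i =>
    i.elim 1 fun k => ⟨_, hmem (k : ℕ)⟩
  have hne1 : ∀ k : ℕ, (r : G) ^ k * a * ((r : G) ^ k)⁻¹ ≠ 1 := fun k h1 => by
    have h2 := (SemiconjBy.orderOf_eq ((r : G) ^ k)
      (show SemiconjBy ((r : G) ^ k) (a : G) ((r : G) ^ k * a * ((r : G) ^ k)⁻¹) by
        simp [SemiconjBy])).symm
    rw [h1, orderOf_one, hao] at h2
    omega
  have hinj : Function.Injective f := by
    rintro (_ | i) (_ | j) hij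
    · rfl
    · exact absurd (congrArg Subtype.val hij).symm (hne1 _)
    · exact absurd (congrArg Subtype.val hij) (hne1 _)
    · have h1 : (r : G) ^ (i : ℕ) * a * ((r : G) ^ (i : ℕ))⁻¹ =
          (r : G) ^ (j : ℕ) * a * ((r : G) ^ (j : ℕ))⁻¹ := congrArg Subtype.val hij
      set s : G := ((r : G) ^ (j : ℕ))⁻¹ * (r : G) ^ (i : ℕ) with hs
      have hsa : s * a = a * s := by
        rw [hs]
        calc ((r : G) ^ (j : ℕ))⁻¹ * (r : G) ^ (i : ℕ) * a
            = ((r : G) ^ (j : ℕ))⁻¹ * ((r : G) ^ (i : ℕ) * a * ((r : G) ^ (i : ℕ))⁻¹) *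
              (r : G) ^ (i : ℕ) := by group
          _ = _ := by rw [h1]; group
      have hsR : s ∈ zpowers (r : G) :=
        mul_mem (inv_mem (pow_mem (mem_zpowers _) _)) (pow_mem (mem_zpowers _) _)
      by_cases hs1 : s = 1
      · have : (i : ℕ) = (j : ℕ) := pow_injOn_Iio_orderOf (x := (r : G))
          (Set.mem_Iio.2 (by rw [hr']; exact i.2)) (Set.mem_Iio.2 (by rw [hr']; exact j.2))
          (inv_mul_eq_one.1 hs1).symm
        rw [Fin.ext this]
      · exfalso
        have hso : orderOf s = 7 := by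
          have hd : orderOf s ∣ 7 := hr' ▸ orderOf_dvd_of_mem_zpowers hsR
          exact ((Nat.dvd_prime (by norm_num)).1 hd).resolve_left fun h2 => hs1 (orderOf_eq_one_iff.1 h2)
        exact h.not_seven (a : G) s hao hso hsa
  have h8 : 8 ≤ Nat.card F := by
    refine le_trans ?_ (Nat.card_le_card_of_injective f hinj)
    simp
  have hFS : F = h.S := eq_of_le_of_card_ge inf_le_left (by rw [h.cardS]; exact h8)
  have hcS : (c : G) ∈ centralizer (h.S : Set G) := by
    rw [mem_centralizer_iff]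
    intro s hs
    exact mem_centralizer_singleton_iff.1 ((hFS.symm ▸ hs : s ∈ F)).2
  rw [h.self_cent] at hcS
  have := orderOf_dvd_natCard (⟨(c : G), hcS⟩ : h.S)
  rw [← Subgroup.orderOf_coe, hc', h.cardS] at this
  norm_num at this

include h in
/-- The normaliser and centraliser of `R` at any fixed coset. -/
theorem normalizer_at {R : Subgroup G} (hR : Nat.card R = 7) {x : G ⧸ h.M} (hx : x ∈ fixSet h R) :
    Nat.card ↥(normalizer (R : Set G) ⊓ MulAction.stabilizer G x) = 21 ∧
      Nat.card ↥(centralizer (R : Set G) ⊓ MulAction.stabilizer G x) = 7 := by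
  induction x using QuotientGroup.induction_on with
  | H g =>
    set R' : Subgroup G := R.comap (MulAut.conj g).toMonoidHom with hR'def
    have hmap : R'.map (MulAut.conj g).toMonoidHom = R :=
      map_comap_eq_self_of_surjective (MulAut.conj g).surjective R
    have hR' : Nat.card R' = 7 := by
      rw [← hR, ← hmap]
      exact Nat.card_congr (R'.equivMapOfInjective (MulAut.conj g).toMonoidHom (MulAut.conj g).injective).toEquiv
    have hle : R' ≤ h.M := by
      intro r hr
      have h1 : g * r * g⁻¹ ∈ R := hr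
      have h2 : (g * r * g⁻¹) • (g : G ⧸ h.M) = (g : G ⧸ h.M) := hx h1
      rw [MulAction.Quotient.smul_mk, smul_eq_mul, QuotientGroup.eq] at h2
      simpa [mul_assoc] using inv_mem h2
    obtain ⟨h21, h7⟩ := normalizer_in_M h hR' hle
    have hst : MulAction.stabilizer G (g : G ⧸ h.M) = h.M.map (MulAut.conj g).toMonoidHom := by
      ext y
      rw [MulAction.mem_stabilizer_iff, MulAction.Quotient.smul_mk, smul_eq_mul, QuotientGroup.eq,
        Involutions.StronglyEmbedded.mem_conj_iff, mul_inv_rev]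
      constructor
      · intro hy
        simpa [mul_assoc] using inv_mem hy
      · intro hy
        simpa [mul_assoc] using inv_mem hy
    rw [hst, ← hmap, ← map_equiv_normalizer_eq R' (MulAut.conj g),
      ← map_inf _ _ _ (MulAut.conj g).injective,
      Nat.card_congr (((normalizer (R' : Set G)) ⊓ h.M).equivMapOfInjective _
        (MulAut.conj g).injective).toEquiv.symm]
    refine ⟨h21, ?_⟩
    have hc : centralizer ((R'.map (MulAut.conj g).toMonoidHom : Subgroup G) : Set G) =
        (centralizer (R' : Set G)).map (MulAut.conj g).toMonoidHom := by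
      ext y
      rw [Involutions.StronglyEmbedded.mem_conj_iff, mem_centralizer_iff, mem_centralizer_iff]
      constructor
      · intro hy r hr
        have := hy _ ⟨r, hr, rfl⟩
        simp only [MulEquiv.coe_toMonoidHom, MulAut.conj_apply] at this
        calc r * (g⁻¹ * y * g) = g⁻¹ * (g * r * g⁻¹ * y) * g := by group
          _ = _ := by rw [this]; group
      · rintro hy _ ⟨r, hr, rfl⟩
        have := hy r hr
        simp only [MulEquiv.coe_toMonoidHom, MulAut.conj_apply]
        calc g * r * g⁻¹ * y = g * (r * (g⁻¹ * y * g)) * g⁻¹ := by group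
          _ = _ := by rw [this]; group
    rw [hc, ← map_inf _ _ _ (MulAut.conj g).injective,
      Nat.card_congr (((centralizer (R' : Set G)) ⊓ h.M).equivMapOfInjective _
        (MulAut.conj g).injective).toEquiv.symm]
    exact h7

include h in
/-- A subgroup of order seven fixing two cosets fixes exactly two. -/
theorem fix_two {R : Subgroup G} (hR : Nat.card R = 7) {x y : G ⧸ h.M} (hxy : x ≠ y)
    (hx : x ∈ fixSet h R) (hy : y ∈ fixSet h R) :
    (fixSet h R).ncard = 2 ∧ Nat.card (centralizer (R : Set G)) = 7 := by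
  set N : Subgroup G := normalizer (R : Set G) with hN
  set C : Subgroup G := centralizer (R : Set G) with hC
  have hC7 := (normalizer_at h hR hx).2
  -- `N` is transitive on the fixed set
  letI : MulAction N (G ⧸ h.M) := MulAction.compHom _ N.subtype
  have horb : MulAction.orbit N x = fixSet h R := by
    ext z
    constructor
    · rintro ⟨n, rfl⟩
      intro r hr
      rw [MulAction.mem_stabilizer_iff]
      show r • ((n : G) • x) = (n : G) • x
      have h1 : (n : G)⁻¹ * r * n ∈ R := by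
        have := (mem_normalizer_iff.1 (inv_mem n.2) r).1 hr
        rwa [inv_inv] at this
      have h2 : ((n : G)⁻¹ * r * n) • x = x := hx h1
      conv_rhs => rw [← h2]
      rw [← mul_smul, ← mul_smul]
      congr 1
      group
    · intro hz
      by_cases hzx : z = x
      · rw [hzx]; exact MulAction.mem_orbit_self x
      · have hc := Swappers.card_swap_pair h.se (x := x) (y := z) (Ne.symm hzx)
        rw [card_inv h] at hc
        obtain ⟨⟨w, hw, hwx⟩⟩ := (Nat.card_pos_iff.1 (by omega :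
          0 < Nat.card {i : G // orderOf i = 2 ∧ i • x = z})).1
        exact ⟨⟨w, swapper_mem_normalizer h hR (Ne.symm hzx) hx hz hw hwx⟩, hwx⟩
  have hNcard : Nat.card N = 21 * (fixSet h R).ncard := by
    have h1 := card_mul_index (MulAction.stabilizer N x)
    rw [MulAction.index_stabilizer, horb] at h1
    rw [← h1]
    congr 1
    rw [← (normalizer_at h hR hx).1]
    exact Nat.card_congr
      { toFun := fun n => ⟨(n.1 : G), n.1.2, n.2⟩
        invFun := fun n => ⟨⟨n.1, n.2.1⟩, n.2.2⟩
        left_inv := fun n => rfl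
        right_inv := fun n => rfl }
  -- involutions of `N` invert `R`
  obtain ⟨r, hr⟩ : ∃ r : R, orderOf r = 7 := by
    haveI : Fact (Nat.Prime 7) := ⟨by norm_num⟩
    exact exists_prime_orderOf_dvd_card' (G := R) 7 hR.symm.dvd
  have hr' : orderOf (r : G) = 7 := by rw [Subgroup.orderOf_coe, hr]
  have hgen : zpowers (r : G) = R :=
    eq_of_le_of_card_ge (zpowers_le.2 r.2) (by rw [Nat.card_zpowers, hr', hR])
  have hmemC : ∀ c : G, c * r = r * c → c ∈ C := by
    intro c hc
    rw [hC, mem_centralizer_iff]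
    intro s hs
    have hs0 : s ∈ R := hs
    rw [← hgen] at hs0
    obtain ⟨i, rfl⟩ := hs0
    exact ((Commute.zpow_right hc i).symm).eq
  have hinv : ∀ w ∈ N, orderOf w = 2 → w * r * w⁻¹ = (r : G)⁻¹ := by
    intro w hw hwo
    have hww : w * w = 1 := by rw [← pow_two, ← hwo, pow_orderOf_eq_one]
    have hs := (mem_normalizer_iff.1 hw r).1 r.2
    have hs' : w * r * w⁻¹ ∈ zpowers (r : G) := hgen.symm ▸ hs
    obtain ⟨k, hk⟩ := mem_zpowers_iff.1 hs'
    have hk2 : (r : G) ^ (k * k) = r := by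
      rw [zpow_mul, hk]
      calc (w * r * w⁻¹) ^ k = w * (r : G) ^ k * w⁻¹ := by
            rw [← MulAut.conj_apply, ← map_zpow, MulAut.conj_apply]
        _ = w * w * r * (w * w)⁻¹ := by rw [hk]; group
        _ = r := by rw [hww, one_mul, inv_one, mul_one]
    have h7 : ((k * k - 1 : ℤ) : ZMod 7) = 0 := by
      rw [ZMod.intCast_zmod_eq_zero_iff_dvd]
      have : (r : G) ^ (k * k - 1) = 1 := by rw [zpow_sub, hk2, zpow_one, mul_inv_cancel]
      have := orderOf_dvd_iff_zpow_eq_one.2 this
      rwa [hr'] at this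
    have hcase : (k : ZMod 7) = 1 ∨ (k : ZMod 7) = -1 := by
      have : ∀ a : ZMod 7, a * a - 1 = 0 → a = 1 ∨ a = -1 := by decide
      refine this _ ?_
      simpa using h7
    rw [← hk]
    rcases hcase with h1 | h1
    · exfalso
      have hd : (7 : ℤ) ∣ k - 1 := by
        rw [show (7 : ℤ) = ((7 : ℕ) : ℤ) from rfl, ← ZMod.intCast_zmod_eq_zero_iff_dvd]
        push_cast; rw [h1]; ring
      have hk1 : (r : G) ^ (k - 1) = 1 := orderOf_dvd_iff_zpow_eq_one.1 (by rw [hr']; exact hd)
      rw [zpow_sub, zpow_one, mul_inv_eq_one] at hk1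
      rw [hk1] at hk
      exact h.not_seven w r hwo hr' (mul_inv_eq_iff_eq_mul.1 hk.symm).symm
    · have hd : (7 : ℤ) ∣ k + 1 := by
        rw [show (7 : ℤ) = ((7 : ℕ) : ℤ) from rfl, ← ZMod.intCast_zmod_eq_zero_iff_dvd]
        push_cast; rw [h1]; ring
      have hk1 : (r : G) ^ (k + 1) = 1 := orderOf_dvd_iff_zpow_eq_one.1 (by rw [hr']; exact hd)
      rw [zpow_add_one] at hk1
      exact eq_inv_of_mul_eq_one_left hk1
  -- seven swappers for each further fixed coset, all inside one coset of `C`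
  obtain ⟨w₀, hw₀, hw₀x⟩ : ∃ w : G, orderOf w = 2 ∧ w • x = y := by
    have hc := Swappers.card_swap_pair h.se hxy
    rw [card_inv h] at hc
    obtain ⟨⟨w, hw⟩⟩ := (Nat.card_pos_iff.1 (by omega :
      0 < Nat.card {i : G // orderOf i = 2 ∧ i • x = y})).1
    exact ⟨w, hw⟩
  have hw₀N : w₀ ∈ N := swapper_mem_normalizer h hR hxy hx hy hw₀ hw₀x
  have hle : 7 * ((fixSet h R).ncard - 1) ≤ Nat.card C := by
    let T : Type _ := Σ z : ↥(fixSet h R \ {x}), {i : G // orderOf i = 2 ∧ i • x = z.1}
    have hTc : Nat.card T = 7 * ((fixSet h R).ncard - 1) := by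
      haveI := Fintype.ofFinite ↥(fixSet h R \ {x})
      rw [Nat.card_sigma, Finset.sum_congr rfl fun z _ =>
        (Swappers.card_swap_pair h.se (fun hzx => z.2.2 (by rw [Set.mem_singleton_iff, ← hzx]))).trans
          (card_inv h), Finset.sum_const, Finset.card_univ, smul_eq_mul, mul_comm,
        ← Nat.card_eq_fintype_card, Nat.card_coe_set_eq, Set.ncard_diff_singleton_of_mem hx]
    rw [← hTc]
    have hmem : ∀ t : T, w₀ * t.2.1 ∈ C := by
      rintro ⟨⟨z, hz, hzx⟩, i, hi, hix⟩
      have hiN : i ∈ N := swapper_mem_normalizer h hR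
        (fun he => hzx (Set.mem_singleton_iff.2 he.symm)) hx hz hi hix
      refine hmemC _ ?_
      have h1 := hinv i hiN hi
      have h2 := hinv w₀ hw₀N hw₀
      calc w₀ * i * (r : G) = w₀ * (i * r * i⁻¹) * i := by group
        _ = (w₀ * r * w₀⁻¹)⁻¹ * (w₀ * i) := by rw [h1]; group
        _ = r * (w₀ * i) := by rw [h2, inv_inv]
    refine Nat.card_le_card_of_injective (fun t => (⟨w₀ * t.2.1, hmem t⟩ : C)) ?_
    rintro ⟨⟨z, hz⟩, i, hi, hix⟩ ⟨⟨z', hz'⟩, i', hi', hix'⟩ he
    have he' : i = i' := mul_left_cancel (congrArg Subtype.val he)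
    subst he'
    have : z = z' := hix.symm.trans hix'
    subst this
    rfl
  -- the index of `C` in `N` is divisible by six
  haveI : (C.subgroupOf N).Normal := by
    refine ⟨fun c hc n => ?_⟩
    rw [mem_subgroupOf, hC, mem_centralizer_iff] at hc ⊢
    intro s hs
    have h1 : (n : G)⁻¹ * s * n ∈ R := by
      have := (mem_normalizer_iff.1 (inv_mem n.2) s).1 hs
      rwa [inv_inv] at this
    have h2 := hc _ h1
    push_cast
    calc s * ((n : G) * c * (n : G)⁻¹) = (n : G) * (((n : G)⁻¹ * s * n) * c) * (n : G)⁻¹ := by group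
      _ = _ := by rw [h2]; group
  have hdvd : ∀ p : ℕ, p.Prime → ∀ a ∈ N, orderOf a = p → a ∉ C →
      p ∣ (C.subgroupOf N).index := by
    intro p hp a ha hao hna
    have h1 : orderOf (QuotientGroup.mk' (C.subgroupOf N) ⟨a, ha⟩) = p := by
      have hd : orderOf (QuotientGroup.mk' (C.subgroupOf N) ⟨a, ha⟩) ∣ p := by
        have := orderOf_map_dvd (QuotientGroup.mk' (C.subgroupOf N)) (⟨a, ha⟩ : N)
        rwa [← Subgroup.orderOf_coe, hao] at this
      rcases (Nat.dvd_prime hp).1 hd with h2 | h2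
      · exfalso
        refine hna ?_
        have := (QuotientGroup.eq_one_iff (⟨a, ha⟩ : N)).1 (orderOf_eq_one_iff.1 h2)
        exact this
      · exact h2
    rw [index_eq_card]
    exact h1 ▸ orderOf_dvd_natCard _
  have h2d : 2 ∣ (C.subgroupOf N).index := by
    refine hdvd 2 Nat.prime_two w₀ hw₀N hw₀ fun hc => ?_
    rw [hC, mem_centralizer_iff] at hc
    exact h.not_seven w₀ r hw₀ hr' (hc r r.2)
  have h3d : 3 ∣ (C.subgroupOf N).index := by
    haveI : Fact (Nat.Prime 3) := ⟨Nat.prime_three⟩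
    obtain ⟨a, ha⟩ := exists_prime_orderOf_dvd_card'
      (G := ↥(N ⊓ MulAction.stabilizer G x)) 3 (by rw [hN, (normalizer_at h hR hx).1]; norm_num)
    have ha3 : orderOf (a : G) = 3 := by rw [Subgroup.orderOf_coe, ha]
    obtain ⟨haN, hax⟩ := mem_inf.1 a.2
    refine hdvd 3 Nat.prime_three a haN ha3 fun hc => ?_
    have h1 := orderOf_dvd_natCard (⟨(a : G), hc, hax⟩ : ↥(C ⊓ MulAction.stabilizer G x))
    rw [← Subgroup.orderOf_coe] at h1
    change orderOf (a : G) ∣ _ at h1
    rw [ha3, hC, hC7] at h1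
    norm_num at h1
  have h6 : 6 ∣ (C.subgroupOf N).index :=
    (Nat.Coprime.mul_dvd_of_dvd_of_dvd (by norm_num : Nat.Coprime 2 3) h2d h3d)
  have hCN : C ≤ N := Subgroup.centralizer_le_normalizer _
  have hprod := card_mul_index (C.subgroupOf N)
  rw [Nat.card_congr (subgroupOfEquivOfLe hCN).toEquiv, hNcard] at hprod
  obtain ⟨q, hq⟩ := h6
  have hq0 : q ≠ 0 := by
    intro h0
    rw [h0, mul_zero] at hq
    exact index_ne_zero_of_finite hq
  have hge : 6 * Nat.card C ≤ 21 * (fixSet h R).ncard := by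
    rw [← hprod, hq, mul_comm 6]
    exact Nat.mul_le_mul_left _ (Nat.le_mul_of_pos_right _ (Nat.pos_of_ne_zero hq0))
  have h2 : 2 ≤ (fixSet h R).ncard := by
    rw [← Set.ncard_pair hxy]
    exact Set.ncard_le_ncard (by simp [Set.insert_subset_iff, hx, hy])
  have h7C : 7 ≤ Nat.card C := by
    rw [← hC7]
    exact card_le_of_le inf_le_left
  omega

include h in
theorem card_eq : Nat.card G = 1512 := by
  haveI : Fact (Nat.Prime 7) := ⟨by norm_num⟩
  set o : G ⧸ h.M := ((1 : G) : G ⧸ h.M) with ho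
  have hst : MulAction.stabilizer G o = h.M := by
    ext y
    rw [MulAction.mem_stabilizer_iff, ho, MulAction.Quotient.smul_mk, smul_eq_mul, mul_one,
      QuotientGroup.eq, mul_one, inv_mem_iff]
  -- the subgroup of order seven attached to another coset
  have hex : ∀ y : {y : G ⧸ h.M // y ≠ o}, ∃ R : Subgroup h.M, Nat.card R = 7 ∧
      R.map h.M.subtype ≤ MulAction.stabilizer G y.1 := by
    rintro ⟨y, hy⟩
    obtain ⟨R, hR, hle, -⟩ := exists_seven h (Ne.symm hy)
    have hRM : R ≤ h.M := hst ▸ hle.trans inf_le_left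
    refine ⟨R.subgroupOf h.M, by rw [Nat.card_congr (subgroupOfEquivOfLe hRM).toEquiv, hR], ?_⟩
    rw [subgroupOf_map_subtype]
    exact (inf_le_left).trans (hle.trans inf_le_right)
  choose φ hφ7 hφle using hex
  have hsyl : ∀ R : Subgroup h.M, Nat.card R = 7 → ∃ P : Sylow 7 h.M, (P : Subgroup h.M) = R := by
    intro R hR
    obtain ⟨P, hP⟩ := (IsPGroup.of_card (p := 7) (G := R) (n := 1) (by rw [hR, pow_one])).exists_le_sylow
    refine ⟨P, (eq_of_le_of_card_ge hP ?_).symm⟩
    obtain ⟨k, hk⟩ := P.2.exists_card_eq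
    have hk1 : 7 ^ k ∣ 168 := by rw [← hk, ← h.cardM]; exact card_subgroup_dvd_card _
    rw [hk, hR]
    by_contra hc
    have : 2 ≤ k := by
      rcases Nat.lt_or_ge k 2 with h2 | h2
      · interval_cases k <;> norm_num at hc
      · exact h2
    have := (Nat.pow_dvd_pow 7 this).trans hk1
    norm_num at this
  have hmapc : ∀ R : Subgroup h.M, Nat.card R = 7 → Nat.card (R.map h.M.subtype) = 7 := fun R hR => by
    rw [Nat.card_congr (R.equivMapOfInjective _ h.M.subtype_injective).toEquiv.symm, hR]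
  have hfixo : ∀ R : Subgroup h.M, o ∈ fixSet h (R.map h.M.subtype) := by
    intro R
    show R.map h.M.subtype ≤ MulAction.stabilizer G o
    rw [hst]
    exact map_subtype_le R
  have htwo : ∀ y : {y : G ⧸ h.M // y ≠ o}, (fixSet h ((φ y).map h.M.subtype)).ncard = 2 := fun y =>
    (fix_two h (hmapc _ (hφ7 y)) (Ne.symm y.2) (hfixo _) (hφle y)).1
  let Φ : {y : G ⧸ h.M // y ≠ o} → Sylow 7 h.M := fun y => Classical.choose (hsyl _ (hφ7 y))
  have hΦ : ∀ y, (Φ y : Subgroup h.M) = φ y := fun y => Classical.choose_spec (hsyl _ (hφ7 y))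
  have hinj : Function.Injective Φ := by
    intro a b hab
    have h1 : φ a = φ b := by rw [← hΦ, ← hΦ, hab]
    by_contra hne
    have h3 : ({o, a.1, b.1} : Set (G ⧸ h.M)).ncard = 3 :=
      Set.ncard_eq_three.2 ⟨o, a.1, b.1, Ne.symm a.2, Ne.symm b.2, fun he => hne (Subtype.ext he), rfl⟩
    have h4 : ({o, a.1, b.1} : Set (G ⧸ h.M)) ⊆ fixSet h ((φ a).map h.M.subtype) := by
      rintro z (rfl | rfl | rfl)
      · exact hfixo _
      · exact hφle a
      · rw [h1]; exact hφle b
    have := Set.ncard_le_ncard h4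
    rw [h3, htwo] at this
    omega
  -- some coset differs from `o`
  obtain ⟨y₀⟩ : Nonempty {y : G ⧸ h.M // y ≠ o} := by
    obtain ⟨g, hg⟩ : ∃ g : G, g ∉ h.M := by
      by_contra hc
      push Not at hc
      exact h.se.1 (eq_top_iff.2 fun g _ => hc g)
    exact ⟨⟨(g : G ⧸ h.M), fun he => hg (Swappers.mk_eq_one_iff.1 he)⟩⟩
  have hsurj : Function.Surjective Φ := by
    intro P
    obtain ⟨m, hm⟩ := MulAction.exists_smul_eq h.M (Φ y₀) P
    set y : G ⧸ h.M := (m : G) • y₀.1 with hy
    have hmo : (m : G) • o = o := by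
      have : (m : G) ∈ MulAction.stabilizer G o := hst.symm ▸ m.2
      exact this
    have hyo : y ≠ o := fun he => y₀.2 (MulAction.injective (m : G) (he.trans hmo.symm))
    refine ⟨⟨y, hyo⟩, Sylow.ext ?_⟩
    rw [hΦ]
    obtain ⟨R₀, hR₀, hle₀, huniq⟩ := exists_seven h (Ne.symm hyo)
    have hP : Nat.card (P : Subgroup h.M) = 7 := by
      rw [← hm, Sylow.coe_subgroup_smul]
      rw [Nat.card_congr (Subgroup.equivSMul _ (Φ y₀ : Subgroup h.M)).toEquiv.symm, hΦ, hφ7]
    have h1 : (P : Subgroup h.M).map h.M.subtype = R₀ := by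
      refine huniq _ (hmapc _ hP) (le_inf (hfixo _) ?_)
      rintro _ ⟨q, hq, rfl⟩
      rw [← hm, Sylow.coe_subgroup_smul] at hq
      obtain ⟨q₀, hq₀, rfl⟩ := hq
      have hfix : ((q₀ : h.M) : G) • y₀.1 = y₀.1 := hφle y₀ ⟨q₀, hΦ y₀ ▸ hq₀, rfl⟩
      show ((m : G) * q₀ * (m : G)⁻¹) • ((m : G) • y₀.1) = (m : G) • y₀.1
      rw [mul_smul, mul_smul, inv_smul_smul, hfix]
    have h2 : (φ ⟨y, hyo⟩).map h.M.subtype = R₀ :=
      huniq _ (hmapc _ (hφ7 _)) (le_inf (hfixo _) (hφle ⟨y, hyo⟩))
    exact map_injective h.M.subtype_injective (h2.trans h1.symm)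
  have h8 : Nat.card {y : G ⧸ h.M // y ≠ o} = 8 := by
    rw [Nat.card_congr (Equiv.ofBijective Φ ⟨hinj, hsurj⟩)]
    obtain ⟨P⟩ : Nonempty (Sylow 7 h.M) := inferInstance
    exact (sylow_seven_M h P).1
  classical
  haveI := Fintype.ofFinite (G ⧸ h.M)
  rw [Nat.card_eq_fintype_card, Fintype.card_subtype_compl, Fintype.card_subtype_eq,
    ← Nat.card_eq_fintype_card, ← index_eq_card] at h8
  have h2 := card_mul_index h.M
  rw [h.cardM] at h2
  have : h.M.index = 9 := by omega
  rw [← h2, this]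

include h in
theorem card_centralizer_seven {r : G} (hr : orderOf r = 7) :
    Nat.card (centralizer ({r} : Set G)) = 7 := by
  haveI : Fact (Nat.Prime 7) := ⟨by norm_num⟩
  -- `r` fixes two cosets, there being nine
  haveI := Fintype.ofFinite (G ⧸ h.M)
  have hindex : h.M.index = 9 := by
    have h2 := card_mul_index h.M
    rw [h.cardM, card_eq h] at h2; omega
  have hmod := (IsPGroup.of_card (p := 7) (G := zpowers r) (n := 1)
    (by rw [Nat.card_zpowers, hr, pow_one])).card_modEq_card_fixedPoints (G ⧸ h.M)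
  rw [← index_eq_card, hindex] at hmod
  have hone : 1 < (MulAction.fixedPoints (zpowers r) (G ⧸ h.M)).ncard := by
    rw [← Nat.card_coe_set_eq]
    have h6 : Nat.card (MulAction.fixedPoints (zpowers r) (G ⧸ h.M)) % 7 = 2 := by rw [← hmod]
    omega
  obtain ⟨x, y, hx, hy, hxy⟩ := (Set.one_lt_ncard_iff).1 hone
  have hfix : ∀ z ∈ MulAction.fixedPoints (zpowers r) (G ⧸ h.M), z ∈ fixSet h (zpowers r) := by
    intro z hz s hs
    exact hz ⟨s, hs⟩
  have h7 := (fix_two h (by rw [Nat.card_zpowers, hr]) hxy (hfix x hx) (hfix y hy)).2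
  rw [← h7, zpowers_eq_closure, centralizer_closure]

end Cfsg.Agent.Lib.TwoTimesAlt.Count
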