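import Cfsg.Agent.Lib.Transfer.Fusion
import Mathlib.GroupTheory.SpecificGroups.Cyclic
import Mathlib.GroupTheory.IndexNormal

/-!
No simple group of order 1512 has all involution centralisers inside conjugates of a subgroup of
order 168 and self-centralising Sylow 7-subgroups. Owner: helper7.
-/

set_option autoImplicit false

open Subgroup
open scoped commutatorElement

namespace Cfsg.Agent.Lib.TwoTimesAlt.O1512

variable {G : Type*} [Group G] [Finite G]

/-- The hypotheses. -/
structure Hyp (G : Type*) [Group G] where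
  M : Subgroup G
  cardM : Nat.card M = 168
  cardG : Nat.card G = 1512
  simple : IsSimpleGroup G
  inv_cent : ∀ t c : G, orderOf t = 2 → c * t = t * c → ∃ g : G, g⁻¹ * c * g ∈ M
  seven : ∀ r : G, orderOf r = 7 → Nat.card (centralizer ({r} : Set G)) = 7
  twoComm : ∀ Q : Subgroup G, IsPGroup 2 Q → ∀ a ∈ Q, ∀ b ∈ Q, a * a = 1 ∧ a * b = b * a

variable (h : Hyp G)

theorem card_cent_conj (g x : G) :
    Nat.card (centralizer ({g⁻¹ * x * g} : Set G)) = Nat.card (centralizer ({x} : Set G)) := by
  let e : centralizer ({x} : Set G) ≃ centralizer ({g⁻¹ * x * g} : Set G) :=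
    { toFun := fun c => ⟨g⁻¹ * (c : G) * g, by
        have hc := mem_centralizer_singleton_iff.1 c.2
        rw [mem_centralizer_singleton_iff]
        calc g⁻¹ * (c : G) * g * (g⁻¹ * x * g) = g⁻¹ * ((c : G) * x) * g := by group
          _ = _ := by rw [hc]; group⟩
      invFun := fun c => ⟨g * (c : G) * g⁻¹, by
        have hc := mem_centralizer_singleton_iff.1 c.2
        rw [mem_centralizer_singleton_iff]
        calc g * (c : G) * g⁻¹ * x = g * ((c : G) * (g⁻¹ * x * g)) * g⁻¹ := by group
          _ = _ := by rw [hc]; group⟩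
      left_inv := fun c => Subtype.ext (by simp [mul_assoc])
      right_inv := fun c => Subtype.ext (by simp [mul_assoc]) }
  exact (Nat.card_congr e).symm

theorem card_mul_rel {H K : Subgroup G} (hle : H ≤ K) :
    Nat.card H * H.relIndex K = Nat.card K := by
  have := relIndex_mul_relIndex (⊥ : Subgroup G) H K bot_le hle
  rwa [relIndex_bot_left, relIndex_bot_left] at this

include h in
theorem not_dvd_of_mem {x : G} (hx : x ∈ h.M) (hx1 : x ≠ 1) :
    ¬ 27 ∣ Nat.card (centralizer ({x} : Set G)) := by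
  intro h27
  set C : Subgroup G := centralizer ({x} : Set G) with hC
  have hindex : h.M.index = 9 := by
    have := card_mul_index h.M
    rw [h.cardM, h.cardG] at this; omega
  have h1 : (h.M ⊓ C).relIndex C * Nat.card ↥(h.M ⊓ C) = Nat.card C := by
    rw [mul_comm, card_mul_rel inf_le_right]
  have h2 : Nat.card ↥(h.M ⊓ C) ∣ 168 := h.cardM ▸ card_dvd_of_le inf_le_left
  have hle : h.M.relIndex C ≤ 9 := by
    rw [← hindex, ← relIndex_top_right h.M]
    refine relIndex_le_of_le_right le_top ?_
    rw [relIndex_top_right, hindex]; omega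
  rw [inf_relIndex_right] at h1
  have h9 : h.M.relIndex C = 9 := by
    refine le_antisymm hle ?_
    have h27' : 27 ∣ h.M.relIndex C * Nat.card ↥(h.M ⊓ C) := h1 ▸ h27
    have h3 : 27 ∣ h.M.relIndex C * 168 := h27'.trans (Nat.mul_dvd_mul_left _ h2)
    have h4 : 9 ∣ h.M.relIndex C * 56 := by omega
    have h5 : 9 ∣ h.M.relIndex C := (Nat.Coprime.dvd_of_dvd_mul_right (by norm_num) h4)
    refine Nat.le_of_dvd (Nat.pos_of_ne_zero fun h0 => ?_) h5
    rw [h0, zero_mul] at h1
    exact Nat.card_pos.ne h1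
  -- `C` is transitive on the cosets
  letI : MulAction C (G ⧸ h.M) := MulAction.compHom _ C.subtype
  have hst : MulAction.stabilizer C ((1 : G) : G ⧸ h.M) = h.M.subgroupOf C := by
    ext c
    rw [MulAction.mem_stabilizer_iff, mem_subgroupOf]
    show ((c : G) • ((1 : G) : G ⧸ h.M)) = _ ↔ _
    rw [MulAction.Quotient.smul_mk, smul_eq_mul, mul_one, QuotientGroup.eq, mul_one, inv_mem_iff]
  have horb : MulAction.orbit C ((1 : G) : G ⧸ h.M) = Set.univ := by
    apply Set.eq_of_subset_of_ncard_le (Set.subset_univ _)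
    rw [← MulAction.index_stabilizer, hst, ← relIndex, h9, Set.ncard_univ, ← index_eq_card, hindex]
  have hall : ∀ g : G, g * x * g⁻¹ ∈ h.M := by
    intro g
    have : ((g⁻¹ : G) : G ⧸ h.M) ∈ MulAction.orbit C ((1 : G) : G ⧸ h.M) := horb ▸ Set.mem_univ _
    obtain ⟨c, hc⟩ := this
    have hc' : ((c : G) • ((1 : G) : G ⧸ h.M)) = ((g⁻¹ : G) : G ⧸ h.M) := hc
    rw [MulAction.Quotient.smul_mk, smul_eq_mul, mul_one, QuotientGroup.eq] at hc'
    have hcomm := mem_centralizer_singleton_iff.1 c.2
    have e : g * x * g⁻¹ = ((c : G)⁻¹ * g⁻¹)⁻¹ * x * ((c : G)⁻¹ * g⁻¹) := by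
      rw [mul_inv_rev, inv_inv, inv_inv]
      calc g * x * g⁻¹ = g * (x * (c : G)) * (c : G)⁻¹ * g⁻¹ := by group
        _ = _ := by rw [← hcomm]; group
    rw [e]
    exact mul_mem (mul_mem (inv_mem hc') hx) hc'
  have hle' : normalClosure ({x} : Set G) ≤ h.M := by
    rw [normalClosure, closure_le]
    intro y hy
    obtain ⟨a, ha, hy⟩ := Group.mem_conjugatesOfSet_iff.1 hy
    obtain ⟨g, rfl⟩ := isConj_iff.1 hy
    rw [Set.mem_singleton_iff.1 ha]
    exact hall g
  haveI := h.simple
  rcases (normalClosure_normal (s := ({x} : Set G))).eq_bot_or_eq_top with hb | ht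
  · exact hx1 (mem_bot.1 (hb ▸ subset_normalClosure rfl))
  · rw [ht, top_le_iff] at hle'
    have := h.cardM
    rw [hle', card_top, h.cardG] at this
    omega

include h in
theorem not_dvd_of_conj_mem {x g : G} (hx : g⁻¹ * x * g ∈ h.M) (hx1 : x ≠ 1) :
    ¬ 27 ∣ Nat.card (centralizer ({x} : Set G)) := by
  rw [← card_cent_conj g x]
  refine not_dvd_of_mem h hx fun he => hx1 ?_
  have := congrArg (fun y => g * y * g⁻¹) he
  simpa [mul_assoc] using this

include h in
theorem card_cent_of_dvd {z : G} (hz : z ≠ 1) (h27 : 27 ∣ Nat.card (centralizer ({z} : Set G))) :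
    Nat.card (centralizer ({z} : Set G)) = 27 := by
  set C : Subgroup G := centralizer ({z} : Set G) with hC
  have hd : Nat.card C ∣ 1512 := h.cardG ▸ card_subgroup_dvd_card C
  have h2 : ¬ 2 ∣ Nat.card C := by
    intro h2
    haveI : Fact (Nat.Prime 2) := ⟨Nat.prime_two⟩
    obtain ⟨t, ht⟩ := exists_prime_orderOf_dvd_card' (G := C) 2 h2
    have htz := mem_centralizer_singleton_iff.1 t.2
    obtain ⟨g, hg⟩ := h.inv_cent (t : G) z (by rw [Subgroup.orderOf_coe, ht]) htz.symm
    exact not_dvd_of_conj_mem h hg hz h27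
  have h7 : ¬ 7 ∣ Nat.card C := by
    intro h7
    haveI : Fact (Nat.Prime 7) := ⟨by norm_num⟩
    obtain ⟨r, hr⟩ := exists_prime_orderOf_dvd_card' (G := C) 7 h7
    have hrz := mem_centralizer_singleton_iff.1 r.2
    have hr' : orderOf (r : G) = 7 := by rw [Subgroup.orderOf_coe, hr]
    have hzmem : z ∈ centralizer ({(r : G)} : Set G) := mem_centralizer_singleton_iff.2 hrz.symm
    have hCr := h.seven _ hr'
    have hrmem : zpowers (r : G) = centralizer ({(r : G)} : Set G) := by
      refine eq_of_le_of_card_ge (zpowers_le.2 (mem_centralizer_singleton_iff.2 rfl)) ?_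
      rw [hCr, Nat.card_zpowers, hr']
    have hzr : centralizer ({(r : G)} : Set G) ≤ C := by
      rw [← hrmem, zpowers_le]; exact r.2
    -- `z` then has order seven
    have hz7 : orderOf z = 7 := by
      have : orderOf z ∣ 7 := by
        rw [← hCr]
        have := orderOf_dvd_natCard (⟨z, hzmem⟩ : centralizer ({(r : G)} : Set G))
        rwa [← Subgroup.orderOf_coe] at this
      rcases (Nat.dvd_prime (by norm_num)).1 this with h1 | h1
      · exact absurd (orderOf_eq_one_iff.1 h1) hz
      · exact h1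
    rw [hC, h.seven z hz7] at h27
    omega
  obtain ⟨k, hk⟩ := h27
  rw [hk] at hd h2 h7 ⊢
  have hk56 : k ∣ 56 := Nat.dvd_of_mul_dvd_mul_left (by norm_num : 0 < 27) hd
  have hkle : k ≤ 56 := Nat.le_of_dvd (by norm_num) hk56
  have : k = 1 := by
    interval_cases k <;> omega
  omega

include h in
theorem card_sylow (P : Sylow 3 G) : Nat.card (P : Subgroup G) = 27 := by
  haveI : Fact (Nat.Prime 3) := ⟨Nat.prime_three⟩
  obtain ⟨k, hk⟩ := P.2.exists_card_eq
  have h1 : Nat.card (P : Subgroup G) * (P : Subgroup G).index = 1512 := by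
    rw [card_mul_index, h.cardG]
  rw [hk] at h1 ⊢
  have hnd := P.not_dvd_index
  have : k ≤ 6 := by
    by_contra hc
    have : 3 ^ 7 ∣ 1512 := (Nat.pow_dvd_pow 3 (show 7 ≤ k by omega)).trans ⟨_, h1.symm⟩
    norm_num at this
  interval_cases k <;> omega

include h in
theorem not_commutative (P : Sylow 3 G) : ¬ IsMulCommutative (P : Subgroup G) := by
  intro hP
  haveI : Fact (Nat.Prime 3) := ⟨Nat.prime_three⟩
  obtain ⟨x, hx⟩ := exists_prime_orderOf_dvd_card' (G := h.M) 3 (by rw [h.cardM]; norm_num)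
  have hx' : orderOf (x : G) = 3 := by rw [Subgroup.orderOf_coe, hx]
  obtain ⟨Q, hQ⟩ := (IsPGroup.of_card (p := 3) (G := zpowers (x : G)) (n := 1)
    (by rw [Nat.card_zpowers, hx', pow_one])).exists_le_sylow
  have hQc : IsMulCommutative (Q : Subgroup G) :=
    let e := (P.equiv Q)
    ⟨⟨fun a b => e.symm.injective (by rw [map_mul, map_mul]; exact hP.is_comm.comm _ _)⟩⟩
  refine not_dvd_of_mem h x.2 (fun h1 => by rw [h1, orderOf_one] at hx'; omega) ?_
  rw [← card_sylow h Q]
  refine card_dvd_of_le fun y hy => mem_centralizer_singleton_iff.2 ?_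
  exact congrArg Subtype.val (hQc.is_comm.comm ⟨y, hy⟩ ⟨(x : G), hQ (mem_zpowers _)⟩)

include h in
/-- The centre of a Sylow 3-subgroup has order three, and its centraliser is the Sylow subgroup. -/
theorem exists_center (P : Sylow 3 G) : ∃ z ∈ (P : Subgroup G), orderOf z = 3 ∧
    centralizer ({z} : Set G) = (P : Subgroup G) ∧
    (∀ y ∈ (P : Subgroup G), (∀ p ∈ (P : Subgroup G), y * p = p * y) → y ∈ zpowers z) := by
  haveI : Fact (Nat.Prime 3) := ⟨Nat.prime_three⟩
  have h27 := card_sylow h P
  haveI : Nontrivial (P : Subgroup G) := Finite.one_lt_card_iff_nontrivial.1 (by omega)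
  haveI := P.2.center_nontrivial
  set Z := center (P : Subgroup G) with hZ
  obtain ⟨k, hk⟩ := (P.2.to_subgroup Z).exists_card_eq
  have hkle : 3 ^ k ∣ 3 ^ 3 := by rw [← hk, show (3:ℕ) ^ 3 = 27 from rfl, ← h27]; exact card_subgroup_dvd_card Z
  have hk3 : k ≤ 3 := (Nat.pow_dvd_pow_iff_le_right (by norm_num)).1 hkle
  have hk1 : 1 ≤ k := by
    by_contra hc
    have hk0 : Nat.card Z = 1 := by rw [hk, show k = 0 by omega, pow_zero]
    exact absurd (Subgroup.eq_bot_of_card_eq Z hk0) (nontrivial_iff_ne_bot Z |>.1 inferInstance)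
  have hk1' : k = 1 := by
    by_contra hc
    apply not_commutative h P
    haveI : IsCyclic ((P : Subgroup G) ⧸ Z) := by
      have hq : Nat.card ((P : Subgroup G) ⧸ Z) * Nat.card Z = 27 := by
        rw [← h27, ← card_eq_card_quotient_mul_card_subgroup]
      rw [hk] at hq
      rcases (show k = 2 ∨ k = 3 by omega) with rfl | rfl
      · exact isCyclic_of_prime_card (p := 3) (by omega)
      · haveI : Subsingleton ((P : Subgroup G) ⧸ Z) :=
          (Nat.card_eq_one_iff_unique.1 (by omega)).1
        exact isCyclic_of_subsingleton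
    exact ⟨⟨fun a b => commutative_of_cyclic_center_quotient (QuotientGroup.mk' Z)
      (QuotientGroup.ker_mk' Z).le a b⟩⟩
  subst hk1'
  rw [pow_one] at hk
  obtain ⟨z, hz⟩ := exists_prime_orderOf_dvd_card' (G := Z) 3 hk.symm.dvd
  have hz' : orderOf ((z : (P : Subgroup G)) : G) = 3 := by
    rw [Subgroup.orderOf_coe, Subgroup.orderOf_coe, hz]
  refine ⟨((z : (P : Subgroup G)) : G), SetLike.coe_mem _, hz', ?_, ?_⟩
  · have hle : (P : Subgroup G) ≤ centralizer ({((z : (P : Subgroup G)) : G)} : Set G) := fun p hp =>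
      mem_centralizer_singleton_iff.2
        (congrArg Subtype.val (mem_center_iff.1 z.2 ⟨p, hp⟩))
    refine (eq_of_le_of_card_ge hle ?_).symm
    rw [h27, card_cent_of_dvd h (fun h1 => by rw [h1, orderOf_one] at hz'; omega)
      (by have := card_dvd_of_le hle; rwa [h27] at this)]
  · intro y hy hyc
    have hyZ : (⟨y, hy⟩ : (P : Subgroup G)) ∈ Z :=
      mem_center_iff.2 fun p => Subtype.ext (hyc p p.2).symm
    have hgen : zpowers (z : (P : Subgroup G)) = Z := by
      refine eq_of_le_of_card_ge (zpowers_le.2 z.2) ?_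
      rw [hk, Nat.card_zpowers, Subgroup.orderOf_coe, hz]
    rw [← hgen] at hyZ
    obtain ⟨i, hi⟩ := hyZ
    exact ⟨i, congrArg Subtype.val hi⟩

include h in
/-- A conjugate of `z` in `P` is central in `P`. -/
theorem conj_mem_zpowers (P : Sylow 3 G) {z : G} (hzP : z ∈ (P : Subgroup G))
    (hz : orderOf z = 3) (hCz : centralizer ({z} : Set G) = (P : Subgroup G))
    (hZ : ∀ y ∈ (P : Subgroup G), (∀ p ∈ (P : Subgroup G), y * p = p * y) → y ∈ zpowers z)
    (g : G) (hy : g * z * g⁻¹ ∈ (P : Subgroup G)) : g * z * g⁻¹ ∈ zpowers z := by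
  classical
  haveI : Fact (Nat.Prime 3) := ⟨Nat.prime_three⟩
  set y : G := g * z * g⁻¹ with hydef
  by_contra hyZ
  have hy3 : orderOf y = 3 := by
    rw [hydef, ← hz]
    exact (SemiconjBy.orderOf_eq g (show SemiconjBy g z (g * z * g⁻¹) by simp [SemiconjBy])).symm
  have h27y : Nat.card (centralizer ({y} : Set G)) = 27 := by
    have := card_cent_conj g⁻¹ z
    rw [inv_inv] at this
    rw [hydef, this, hCz, card_sylow h P]
  have hzy : y * z = z * y := by
    have := hy
    rw [← hCz, mem_centralizer_singleton_iff] at this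
    exact this
  set P₂ : Subgroup G := centralizer ({y} : Set G) with hP₂
  have hPP : (P : Subgroup G) ≠ P₂ := by
    intro he
    refine hyZ (hZ y hy fun p hp => ?_)
    rw [he, hP₂, mem_centralizer_singleton_iff] at hp
    exact hp.symm
  -- the group generated by `y` and `z`
  set A : Subgroup G := closure {y, z} with hA
  have hyA : y ∈ A := subset_closure (by simp)
  have hzA : z ∈ A := subset_closure (by simp)
  have hAP : A ≤ (P : Subgroup G) :=
    (closure_le _).2 (Set.insert_subset_iff.2 ⟨hy, Set.singleton_subset_iff.2 hzP⟩)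
  have hzP₂ : z ∈ P₂ := mem_centralizer_singleton_iff.2 hzy.symm
  have hAP₂ : A ≤ P₂ :=
    (closure_le _).2 (Set.insert_subset_iff.2
      ⟨mem_centralizer_singleton_iff.2 rfl, Set.singleton_subset_iff.2 hzP₂⟩)
  have hcardA : Nat.card A = 9 := by
    have h1 : Nat.card A ∣ 3 ^ 3 := by
      rw [show (3 : ℕ) ^ 3 = 27 from rfl, ← card_sylow h P]; exact card_dvd_of_le hAP
    obtain ⟨k, hk, hk'⟩ := (Nat.dvd_prime_pow Nat.prime_three).1 h1
    have h2 : zpowers z < A := by
      refine lt_of_le_of_ne (zpowers_le.2 hzA) fun he => hyZ (he ▸ hyA)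
    have h3 : Nat.card (zpowers z) < Nat.card A :=
      lt_of_le_of_ne (card_le_of_le h2.le) fun he => h2.ne (eq_of_le_of_card_ge h2.le he.ge)
    rw [Nat.card_zpowers, hz] at h3
    rw [hk'] at h3 ⊢
    interval_cases k
    · omega
    · omega
    · rfl
    · exfalso
      have h4 : A = P₂ := eq_of_le_of_card_ge hAP₂ (by rw [hk', h27y]; norm_num)
      have h5 : A = (P : Subgroup G) := eq_of_le_of_card_ge hAP (by
        rw [hk', card_sylow h P]; norm_num)
      exact hPP (h5.symm.trans h4)
  have hAc : ∀ a ∈ A, ∀ b ∈ A, a * b = b * a := by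
    have hc : IsMulCommutative A :=
      IsPGroup.isMulCommutative_of_card_eq_prime_sq (p := 3) (by rw [hcardA]; norm_num)
    exact fun a ha b hb => congrArg Subtype.val (hc.is_comm.comm ⟨a, ha⟩ ⟨b, hb⟩)
  have hCA : centralizer (A : Set G) ≤ A := by
    intro c hc
    have hcP : c ∈ (P : Subgroup G) ⊓ P₂ := by
      refine ⟨?_, mem_centralizer_singleton_iff.2 (mem_centralizer_iff.1 hc y hyA).symm⟩
      rw [← hCz]
      exact mem_centralizer_singleton_iff.2 (mem_centralizer_iff.1 hc z hzA).symm
    have hle : A ≤ (P : Subgroup G) ⊓ P₂ := le_inf hAP hAP₂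
    have heq : A = (P : Subgroup G) ⊓ P₂ := by
      refine eq_of_le_of_card_ge hle ?_
      have h1 : Nat.card ↥((P : Subgroup G) ⊓ P₂) ∣ 3 ^ 3 := by
        rw [show (3 : ℕ) ^ 3 = 27 from rfl, ← card_sylow h P]; exact card_dvd_of_le inf_le_left
      obtain ⟨k, hk, hk'⟩ := (Nat.dvd_prime_pow Nat.prime_three).1 h1
      rw [hk', hcardA]
      interval_cases k
      · norm_num
      · norm_num
      · norm_num
      · exfalso
        have h4 : (P : Subgroup G) ⊓ P₂ = (P : Subgroup G) :=
          eq_of_le_of_card_ge inf_le_left (by rw [hk', card_sylow h P]; norm_num)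
        exact hPP (eq_of_le_of_card_ge (inf_eq_left.1 h4) (by rw [h27y, card_sylow h P]))
    exact heq ▸ hcP
  -- every nontrivial element of `A` has centraliser of order divisible by `27`
  have hAnorm : ∀ Q : Subgroup G, A ≤ Q → Nat.card Q = 27 → Q ≤ normalizer (A : Set G) := by
    intro Q hAQ hQ
    have h1 : (A.subgroupOf Q).index = (Nat.card Q).minFac := by
      have h2 := card_mul_index (A.subgroupOf Q)
      rw [Nat.card_congr (subgroupOfEquivOfLe hAQ).toEquiv, hcardA, hQ] at h2
      rw [hQ, show (A.subgroupOf Q).index = 3 by omega]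
      norm_num
    haveI := Subgroup.normal_of_index_eq_minFac_card h1
    exact (normal_subgroupOf_iff_le_normalizer hAQ).1 inferInstance
  have hPN : (P : Subgroup G) ≤ normalizer (A : Set G) := hAnorm _ hAP (card_sylow h P)
  have hP₂N : P₂ ≤ normalizer (A : Set G) := hAnorm _ hAP₂ h27y
  obtain ⟨p, hpP, hpy⟩ : ∃ p ∈ (P : Subgroup G), p * y * p⁻¹ ≠ y := by
    by_contra hc
    push Not at hc
    refine hyZ (hZ y hy fun p hp => ?_)
    have := hc p hp
    calc y * p = (p * y * p⁻¹) * p := by rw [this]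
      _ = p * y := by group
  -- the nine products
  have hpz : p * z * p⁻¹ = z := by
    have := hpP
    rw [← hCz, mem_centralizer_singleton_iff] at this
    rw [this, mul_inv_cancel_right]
  have hy1 : y ≠ 1 := fun h1 => by rw [h1, orderOf_one] at hy3; omega
  have hz1 : z ≠ 1 := fun h1 => by rw [h1, orderOf_one] at hz; omega
  have hzy' : Commute y z := hzy
  have hinj : ∀ a b : Fin 3, y ^ (a : ℕ) * z ^ (b : ℕ) = 1 → a = 0 ∧ b = 0 := by
    intro a b hab
    have ha : y ^ (a : ℕ) ∈ zpowers z := by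
      rw [eq_inv_of_mul_eq_one_left hab]
      exact inv_mem (pow_mem (mem_zpowers z) _)
    have hy4 : y ^ 3 = 1 := hy3 ▸ pow_orderOf_eq_one y
    fin_cases a
    · refine ⟨rfl, ?_⟩
      simp at hab
      have := orderOf_dvd_of_pow_eq_one hab
      rw [hz] at this
      fin_cases b <;> simp_all
    · exact absurd (by simpa using ha) hyZ
    · exfalso
      refine hyZ ?_
      have : y = (y ^ 2)⁻¹ := eq_inv_of_mul_eq_one_left (by rw [← pow_succ']; exact hy4)
      rw [this]
      exact inv_mem (by simpa using ha)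
  have hz3 : z ^ 3 = 1 := hz ▸ pow_orderOf_eq_one z
  have hy3' : y ^ 3 = 1 := hy3 ▸ pow_orderOf_eq_one y
  have hsurj : ∀ a ∈ A, ∃ i : Fin 3 × Fin 3, a = y ^ (i.1 : ℕ) * z ^ (i.2 : ℕ) := by
    let f : Fin 3 × Fin 3 → A := fun i =>
      ⟨y ^ (i.1 : ℕ) * z ^ (i.2 : ℕ), mul_mem (pow_mem hyA _) (pow_mem hzA _)⟩
    have hf : Function.Injective f := by
      rintro ⟨a, b⟩ ⟨a', b'⟩ he
      have he' : y ^ (a : ℕ) * z ^ (b : ℕ) = y ^ (a' : ℕ) * z ^ (b' : ℕ) := congrArg Subtype.val he
      have hkey : y ^ ((a - a' : Fin 3) : ℕ) * z ^ ((b - b' : Fin 3) : ℕ) = 1 := by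
        have hc : ∀ {w : G} (i j : Fin 3), w ^ 3 = 1 →
            w ^ ((i - j : Fin 3) : ℕ) * w ^ (j : ℕ) = w ^ (i : ℕ) := by
          intro w i j hw
          rw [← pow_add, pow_eq_pow_mod _ hw, ← Fin.val_add, sub_add_cancel]
        have h1 := hc a a' hy3'
        have h2 := hc b b' hz3
        have h3 : y ^ ((a - a' : Fin 3) : ℕ) * z ^ ((b - b' : Fin 3) : ℕ) *
            (y ^ (a' : ℕ) * z ^ (b' : ℕ)) = y ^ (a : ℕ) * z ^ (b : ℕ) := by
          rw [(hzy'.symm.pow_pow _ _).mul_mul_mul_comm, h1, h2]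
        rw [he'] at h3
        exact mul_eq_right.1 h3
      obtain ⟨h1, h2⟩ := hinj _ _ hkey
      exact Prod.ext (sub_eq_zero.1 h1) (sub_eq_zero.1 h2)
    have hb : Function.Bijective f := (Nat.bijective_iff_injective_and_card f).2 ⟨hf, by
      simp [hcardA]⟩
    intro a ha
    obtain ⟨i, hi⟩ := hb.2 ⟨a, ha⟩
    exact ⟨i, (congrArg Subtype.val hi).symm⟩
  have hall : ∀ a ∈ A, a ≠ 1 → 27 ∣ Nat.card (centralizer ({a} : Set G)) := by
    have hconj : ∀ q w : G, 27 ∣ Nat.card (centralizer ({w} : Set G)) →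
        27 ∣ Nat.card (centralizer ({q * w * q⁻¹} : Set G)) := by
      intro q w hw
      have := card_cent_conj q⁻¹ w
      rw [inv_inv] at this
      rwa [this]
    have hpow : ∀ w : G, 27 ∣ Nat.card (centralizer ({w} : Set G)) →
        ∀ n : ℕ, 27 ∣ Nat.card (centralizer ({w ^ n} : Set G)) := by
      intro w hw n
      refine hw.trans (card_dvd_of_le fun c hc => mem_centralizer_singleton_iff.2 ?_)
      exact (Commute.pow_right (mem_centralizer_singleton_iff.1 hc) n).eq
    obtain ⟨⟨l₁, l⟩, hl⟩ := hsurj _ ((mem_normalizer_iff.1 (hPN hpP) y).1 hyA)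
    -- the first exponent is one
    have hl₁ : l₁ = 1 := by
      have hq : y⁻¹ * (p * y * p⁻¹) ∈ zpowers z ∨ l₁ ≠ 1 := by
        by_cases h1 : l₁ = 1
        · left
          rw [hl, h1]
          simp [pow_mem (mem_zpowers z)]
        · exact Or.inr h1
      by_contra hne
      fin_cases l₁
      · -- then `p y p⁻¹` is a power of `z`
        apply hyZ
        have h5 : p * y * p⁻¹ = z ^ (l : ℕ) := by simpa using hl
        have h6 : y = z ^ (l : ℕ) := by
          have h7 : p⁻¹ * z * p = z := by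
            conv_lhs => rw [← hpz]
            group
          have h9 : ∀ n : ℕ, p⁻¹ * z ^ n * p = z ^ n := by
            intro n
            induction n with
            | zero => simp
            | succ n ih =>
              calc p⁻¹ * z ^ (n + 1) * p = (p⁻¹ * z ^ n * p) * (p⁻¹ * z * p) := by
                    rw [pow_succ]; group
                _ = z ^ (n + 1) := by rw [ih, h7, pow_succ]
          rw [← h9, ← h5]; group
        rw [h6]
        exact pow_mem (mem_zpowers z) _
      · exact hne rfl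
      · -- conjugation by a 3-element cannot invert `y` modulo `z`
        have h5 : p * y * p⁻¹ = y ^ 2 * z ^ (l : ℕ) := by simpa using hl
        have hc : ∀ n : ℕ, p * z ^ n * p⁻¹ = z ^ n := fun n => by
          rw [← MulAut.conj_apply, map_pow, MulAut.conj_apply, hpz]
        have h6 : p ^ 2 * y * (p ^ 2)⁻¹ = y := by
          calc p ^ 2 * y * (p ^ 2)⁻¹ = p * (p * y * p⁻¹) * p⁻¹ := by rw [pow_two]; group
            _ = (p * y * p⁻¹) ^ 2 * (p * z ^ (l : ℕ) * p⁻¹) := by
              conv_lhs => rw [h5]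
              simp [pow_two, mul_assoc]
            _ = y := by
              rw [h5, hc, (hzy'.pow_pow 2 (l : ℕ)).mul_pow, ← pow_mul, ← pow_mul, mul_assoc,
                ← pow_add, show 2 * 2 = 3 + 1 from rfl, pow_succ, hy3', one_mul,
                show (l : ℕ) * 2 + (l : ℕ) = 3 * (l : ℕ) by ring, pow_mul, hz3, one_pow, mul_one]
        have hp3 : p ^ 27 = 1 := by
          have := congrArg Subtype.val (pow_card_eq_one' (x := (⟨p, hpP⟩ : (P : Subgroup G))))
          rwa [card_sylow h P] at this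
        apply hpy
        have hcm : Commute (p ^ 2) y := by
          show p ^ 2 * y = y * p ^ 2
          conv_rhs => rw [← h6]
          group
        have hpp : p = (p ^ 2) ^ 14 := by
          rw [← pow_mul, show 2 * 14 = 27 + 1 from rfl, pow_succ, hp3, one_mul]
        rw [hpp, (hcm.pow_left 14).eq]
        group
    have hl0 : l ≠ 0 := by
      intro h0
      apply hpy
      rw [hl, hl₁, h0]
      simp
    have h27y' : 27 ∣ Nat.card (centralizer ({y} : Set G)) := h27y ▸ dvd_rfl
    have hy1' : p * y * p⁻¹ = y * z ^ (l : ℕ) := by rw [hl, hl₁]; simp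
    have hline : ∀ j : Fin 3, 27 ∣ Nat.card (centralizer ({y * z ^ (j : ℕ)} : Set G)) := by
      have h1 := hconj p y h27y'
      rw [hy1'] at h1
      have h2 := hconj p _ h1
      have h3 : p * (y * z ^ (l : ℕ)) * p⁻¹ = y * z ^ (((l + l : Fin 3)) : ℕ) := by
        rw [← MulAut.conj_apply, map_mul, map_pow, MulAut.conj_apply, MulAut.conj_apply, hy1', hpz,
          mul_assoc, ← pow_add, Fin.val_add, ← pow_eq_pow_mod _ hz3]
      rw [h3] at h2
      intro j
      fin_cases l
      · exact absurd rfl hl0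
      · fin_cases j
        · simpa using h27y'
        · exact h1
        · exact h2
      · fin_cases j
        · simpa using h27y'
        · exact h2
        · exact h1
    intro a ha ha1
    obtain ⟨⟨i, j⟩, rfl⟩ := hsurj a ha
    fin_cases i
    · have : 27 ∣ Nat.card (centralizer ({z} : Set G)) := by rw [hCz, card_sylow h P]
      simpa using hpow z this (j : ℕ)
    · simpa using hline j
    · have h1 := hpow _ (hline (j + j)) 2
      have h2 : (y * z ^ ((j + j : Fin 3) : ℕ)) ^ 2 = y ^ 2 * z ^ (j : ℕ) := by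
        rw [(hzy'.pow_right _).mul_pow, ← pow_mul, Fin.val_add, pow_eq_pow_mod _ hz3,
          show ((j : ℕ) + (j : ℕ)) % 3 * 2 % 3 = (j : ℕ) by omega]
      rw [h2] at h1
      exact h1
  -- the normaliser
  set N : Subgroup G := normalizer (A : Set G) with hN
  have hN27 : 27 ∣ Nat.card N := card_sylow h P ▸ card_dvd_of_le hPN
  have hN7 : ¬ 7 ∣ Nat.card N := by
    intro h7
    haveI : Fact (Nat.Prime 7) := ⟨by norm_num⟩
    obtain ⟨r, hr⟩ := exists_prime_orderOf_dvd_card' (G := N) 7 h7
    have hr' : orderOf (r : G) = 7 := by rw [Subgroup.orderOf_coe, hr]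
    -- conjugation by `r` permutes the nine elements, so fixes two of them
    letI : MulAction (zpowers (r : G)) A :=
      MulAction.compHom A (show zpowers (r : G) →* Equiv.Perm A from
        { toFun := fun s =>
            { toFun := fun a => ⟨(s : G) * a * (s : G)⁻¹,
                (mem_normalizer_iff.1 (zpowers_le.2 r.2 s.2) a).1 a.2⟩
              invFun := fun a => ⟨(s : G)⁻¹ * a * (s : G),
                by
                  have := (mem_normalizer_iff.1 (inv_mem (zpowers_le.2 r.2 s.2)) a).1 a.2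
                  rwa [inv_inv] at this⟩
              left_inv := fun a => Subtype.ext (by simp [mul_assoc])
              right_inv := fun a => Subtype.ext (by simp [mul_assoc]) }
          map_one' := Equiv.ext fun a => Subtype.ext (by simp)
          map_mul' := fun a b => Equiv.ext fun c => Subtype.ext (by simp [mul_assoc]) })
    have hmod := (IsPGroup.of_card (p := 7) (G := zpowers (r : G)) (n := 1)
      (by rw [Nat.card_zpowers, hr', pow_one])).card_modEq_card_fixedPoints A
    rw [hcardA] at hmod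
    have hne : ∃ a ∈ MulAction.fixedPoints (zpowers (r : G)) A, a ≠ 1 := by
      by_contra hc
      push Not at hc
      have : Nat.card (MulAction.fixedPoints (zpowers (r : G)) A) ≤ 1 := by
        have : Subsingleton (MulAction.fixedPoints (zpowers (r : G)) A) :=
          ⟨fun a b => Subtype.ext ((hc a a.2).trans (hc b b.2).symm)⟩
        exact Finite.card_le_one_iff_subsingleton.2 this
      have h2 : Nat.card (MulAction.fixedPoints (zpowers (r : G)) A) % 7 = 2 := by
        rw [← hmod]
      omega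
    obtain ⟨a, ha, ha1⟩ := hne
    have hra : (r : G) * a * (r : G)⁻¹ = a :=
      congrArg Subtype.val (ha ⟨(r : G), mem_zpowers _⟩)
    have ha1' : (a : G) ≠ 1 := fun h1 => ha1 (Subtype.ext h1)
    have hCa := card_cent_of_dvd h ha1' (hall a a.2 ha1')
    have hmem : (r : G) ∈ centralizer ({(a : G)} : Set G) := by
      rw [mem_centralizer_singleton_iff]
      exact mul_inv_eq_iff_eq_mul.1 hra
    have := orderOf_dvd_natCard (⟨(r : G), hmem⟩ : centralizer ({(a : G)} : Set G))
    rw [← Subgroup.orderOf_coe, hr', hCa] at this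
    norm_num at this
  obtain ⟨k, hk⟩ := hN27
  have hd : Nat.card N ∣ 1512 := h.cardG ▸ card_subgroup_dvd_card N
  rw [hk] at hd hN7
  have hk56 : k ∣ 56 := Nat.dvd_of_mul_dvd_mul_left (by norm_num : 0 < 27) hd
  haveI : Fact (Nat.Prime 2) := ⟨Nat.prime_two⟩
  have hk4 : 2 ^ 2 ∣ Nat.card N := by
    by_contra h4
    have hk2 : k ∣ 2 := by
      rw [hk] at h4
      have hkle : k ≤ 56 := Nat.le_of_dvd (by norm_num) hk56
      interval_cases k <;> omega
    -- then `P` is normal in `N`
    set P' : Sylow 3 N := P.subtype hPN with hP'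
    have hidx : (P' : Subgroup N).index ∣ 2 := by
      have h1 := card_mul_index (P' : Subgroup N)
      have h2 : Nat.card (P' : Subgroup N) = 27 := by
        rw [← card_sylow h P]
        exact Nat.card_congr (subgroupOfEquivOfLe hPN).toEquiv
      rw [h2, hk] at h1
      rwa [Nat.eq_of_mul_eq_mul_left (by norm_num) h1]
    haveI : (P' : Subgroup N).Normal := by
      rcases (Nat.dvd_prime Nat.prime_two).1 hidx with h1 | h1
      · rw [index_eq_one] at h1; rw [h1]; infer_instance
      · exact Subgroup.normal_of_index_eq_two h1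
    obtain ⟨Q, hQ⟩ := (IsPGroup.of_card (p := 3) (G := P₂.subgroupOf N) (n := 3)
      (by rw [Nat.card_congr (subgroupOfEquivOfLe hP₂N).toEquiv, h27y]; norm_num)).exists_le_sylow
    have hle : P₂ ≤ (P : Subgroup G) := by
      intro c hc
      have h1 : (⟨c, hP₂N hc⟩ : N) ∈ (Q : Subgroup N) := hQ hc
      rw [show Q = P' by
        obtain ⟨n, hn⟩ := MulAction.exists_smul_eq N P' Q
        rw [← hn, Sylow.smul_eq_of_normal]] at h1
      exact h1
    exact hPP (eq_of_le_of_card_ge hle (by rw [h27y, card_sylow h P])).symm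
  obtain ⟨Q, hQ⟩ := Sylow.exists_subgroup_card_pow_prime (G := N) 2 hk4
  have hQ2 : IsPGroup 2 (Q.map N.subtype) :=
    (IsPGroup.of_card (p := 2) (n := 2) hQ).map _
  have hinv : ∀ e : G, e ∈ Q.map N.subtype → e ≠ 1 → ∀ a ∈ A, e * a * e⁻¹ = a⁻¹ := by
    intro e he he1 a ha
    obtain ⟨hee, -⟩ := h.twoComm _ hQ2 e he e he
    have heN : e ∈ N := by
      obtain ⟨q, -, rfl⟩ := he
      exact q.2
    have heo : orderOf e = 2 := orderOf_eq_prime (p := 2) (by rw [pow_two]; exact hee) he1
    have heinv : e⁻¹ = e := inv_eq_of_mul_eq_one_right hee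
    have ha' : e * a * e⁻¹ ∈ A := (mem_normalizer_iff.1 heN a).1 ha
    have hfix : a * (e * a * e⁻¹) = 1 := by
      by_contra hw
      set w := a * (e * a * e⁻¹) with hwdef
      have hwA : w ∈ A := mul_mem ha ha'
      have hew : e * w * e⁻¹ = w := by
        rw [hwdef]
        have h1 : e * (a * (e * a * e⁻¹)) * e⁻¹ = (e * a * e⁻¹) * ((e * e) * a * (e * e)⁻¹) := by
          group
        rw [h1, hee, one_mul, inv_one, mul_one, hAc _ ha' _ ha]
      obtain ⟨g, hg⟩ := h.inv_cent e w heo (mul_inv_eq_iff_eq_mul.1 hew).symm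
      exact not_dvd_of_conj_mem h hg hw (hall w hwA hw)
    exact (inv_eq_of_mul_eq_one_right hfix).symm
  have hQc : Nat.card (Q.map N.subtype) = 4 := by
    rw [Nat.card_congr (Q.equivMapOfInjective N.subtype N.subtype_injective).toEquiv.symm, hQ]
    norm_num
  haveI := Fintype.ofFinite (Q.map N.subtype)
  obtain ⟨a, b, c, hab, hac, hbc⟩ := Fintype.two_lt_card_iff.1
    (show 2 < Fintype.card (Q.map N.subtype) by rw [← Nat.card_eq_fintype_card, hQc]; omega)
  obtain ⟨e, f, hef, he1, hf1⟩ : ∃ e f : Q.map N.subtype, e ≠ f ∧ e ≠ 1 ∧ f ≠ 1 := by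
    by_cases ha : a = 1
    · exact ⟨b, c, hbc, fun h => hab (ha.trans h.symm), fun h => hac (ha.trans h.symm)⟩
    by_cases hb : b = 1
    · exact ⟨a, c, hac, ha, fun h => hbc (hb.trans h.symm)⟩
    exact ⟨a, b, hab, ha, hb⟩
  set u : G := (e : G) * f with hu
  have hu1 : u ≠ 1 := by
    intro h1
    obtain ⟨hee, -⟩ := h.twoComm _ hQ2 (e : G) e.2 (e : G) e.2
    refine hef (Subtype.ext ?_)
    calc (e : G) = (e : G) * ((e : G) * f) := by rw [← hu, h1, mul_one]
      _ = f := by rw [← mul_assoc, hee, one_mul]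
  have huA : u ∈ centralizer (A : Set G) := by
    rw [mem_centralizer_iff]
    intro a ha
    have h1 := hinv f f.2 (fun h => hf1 (Subtype.ext h)) a ha
    have h2 := hinv e e.2 (fun h => he1 (Subtype.ext h)) a⁻¹ (inv_mem ha)
    rw [inv_inv] at h2
    rw [← h1] at h2
    calc a * u = (e : G) * ((f : G) * a * (f : G)⁻¹) * (e : G)⁻¹ * u := by rw [h2]
      _ = u * a := by rw [hu]; group
  have huQ : u ∈ Q.map N.subtype := mul_mem e.2 f.2
  obtain ⟨huu, -⟩ := h.twoComm _ hQ2 u huQ u huQ
  have h9 := congrArg Subtype.val (pow_card_eq_one' (x := (⟨u, hCA huA⟩ : A)))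
  rw [hcardA] at h9
  apply hu1
  have h10 : u ^ 9 = 1 := h9
  rwa [show (9 : ℕ) = 2 * 4 + 1 from rfl, pow_succ, pow_mul, pow_two, huu, one_pow, one_mul] at h10

include h in
/-- There is no such group. -/
theorem absurd_hyp : False := by
  haveI : Fact (Nat.Prime 3) := ⟨Nat.prime_three⟩
  haveI := h.simple
  obtain ⟨P⟩ : Nonempty (Sylow 3 G) := inferInstance
  obtain ⟨z, hzP, hz, hCz, hZ⟩ := exists_center h P
  set Z : Subgroup G := zpowers z with hZdef
  have hZP : Z ≤ centralizer ((P : Subgroup G) : Set G) := by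
    rw [hZdef, zpowers_le, mem_centralizer_iff]
    intro p hp
    rw [← hCz] at hp
    exact mem_centralizer_singleton_iff.1 hp
  have hweak : Cfsg.IsWeaklyClosed Z (P : Subgroup G) := by
    refine ⟨zpowers_le.2 hzP, fun g hg => ?_⟩
    rw [hZdef, MonoidHom.map_zpowers] at hg ⊢
    have hy : g * z * g⁻¹ ∈ (P : Subgroup G) := by
      have := hg (mem_zpowers _)
      simpa [MulAut.conj_apply] using this
    have hm := conj_mem_zpowers h P hzP hz hCz hZ g hy
    refine eq_of_le_of_card_ge (zpowers_le.2 (by simpa [MulAut.conj_apply] using hm)) ?_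
    rw [Nat.card_zpowers, Nat.card_zpowers]
    exact le_of_eq ((MulEquiv.orderOf_eq (MulAut.conj g) z)).symm
  set V : Subgroup G := normalizer (Z : Set G) with hV
  have hPV : (P : Subgroup G) ≤ V := by
    intro p hp
    rw [hV, mem_normalizer_iff]
    intro w
    have hc : ∀ w ∈ Z, p * w * p⁻¹ = w := fun w hw => by
      have := mem_centralizer_iff.1 (hZP hw) p hp
      rw [this, mul_inv_cancel_right]
    constructor
    · intro hw; rw [hc w hw]; exact hw
    · intro hw
      have h1 := hc _ hw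
      have h2 : p * w * p⁻¹ = w := mul_left_cancel (mul_right_cancel h1)
      rwa [h2] at hw
  have htr := Transfer.Fusion.commutator_inf_sylow_eq_of_controls P V hPV
    (fun x hx g hy => Transfer.Fusion.controls_of_isWeaklyClosed P Z hZP hweak x hx g hy)
  have hperf : commutator G = ⊤ := by
    refine (Subgroup.Normal.eq_bot_or_eq_top (H := commutator G) inferInstance).resolve_left fun hb => ?_
    rw [commutator_eq_bot_iff_center_eq_top] at hb
    refine not_commutative h P ⟨⟨fun a b => Subtype.ext ?_⟩⟩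
    exact (mem_center_iff.1 (hb ▸ mem_top (b : G)) (a : G))
  rw [hperf, top_inf_eq] at htr
  have hPV' : (P : Subgroup G) ≤ ⁅V, V⁆ := htr.le.trans inf_le_left
  have h27 := card_sylow h P
  -- elements of `V` outside `P` invert `z`
  have hout : ∀ v ∈ V, v ∈ (P : Subgroup G) ∨ v * z * v⁻¹ = z⁻¹ := by
    intro v hv
    have h1 : v * z * v⁻¹ ∈ Z := (mem_normalizer_iff.1 hv z).1 (mem_zpowers z)
    obtain ⟨i, hi⟩ := (mem_zpowers_iff).1 h1
    rw [← zpow_mod_orderOf, hz] at hi
    have h2 : i % 3 = 0 ∨ i % 3 = 1 ∨ i % 3 = 2 := by omega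
    rcases h2 with h2 | h2 | h2 <;> rw [show ((3 : ℕ) : ℤ) = 3 from rfl, h2] at hi
    · exfalso
      rw [zpow_zero] at hi
      have : z = 1 := by
        have := congrArg (fun w => v⁻¹ * w * v) hi
        simpa [mul_assoc] using this.symm
      rw [this, orderOf_one] at hz; omega
    · left
      rw [← hCz, mem_centralizer_singleton_iff]
      rw [zpow_one] at hi
      exact mul_inv_eq_iff_eq_mul.1 hi.symm
    · right
      rw [← hi, eq_inv_iff_mul_eq_one, ← zpow_add_one]
      show z ^ ((2 : ℤ) + 1) = 1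
      rw [show ((2 : ℤ) + 1) = ((3 : ℕ) : ℤ) from rfl, zpow_natCast, ← hz, pow_orderOf_eq_one]
  haveI hZn : (Z.subgroupOf (P : Subgroup G)).Normal :=
    (normal_subgroupOf_iff_le_normalizer (zpowers_le.2 hzP)).2 hPV
  -- `P / Z` is commutative
  have hcomm : ∀ a b : (P : Subgroup G) ⧸ Z.subgroupOf (P : Subgroup G), a * b = b * a := by
    have hcard : Nat.card ((P : Subgroup G) ⧸ Z.subgroupOf (P : Subgroup G)) = 3 ^ 2 := by
      have h1 := card_mul_index (Z.subgroupOf (P : Subgroup G))
      rw [Nat.card_congr (subgroupOfEquivOfLe (zpowers_le.2 hzP : Z ≤ _)).toEquiv, h27, hZdef,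
        Nat.card_zpowers, hz] at h1
      rw [← index_eq_card, hZdef]; omega
    exact fun a b => (IsPGroup.isMulCommutative_of_card_eq_prime_sq hcard).is_comm.comm a b
  by_cases hu : ∃ u ∈ V, u ∉ (P : Subgroup G)
  · obtain ⟨u, huV, huP⟩ := hu
    have huinv := (hout u huV).resolve_left huP
    have hprod : ∀ v ∈ V, v ∉ (P : Subgroup G) → v * u ∈ (P : Subgroup G) := by
      intro v hv hvP
      have hvinv := (hout v hv).resolve_left hvP
      rw [← hCz, mem_centralizer_singleton_iff]
      calc v * u * z = v * (u * z * u⁻¹) * u := by group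
        _ = v * z⁻¹ * u := by rw [huinv]
        _ = (v * z * v⁻¹)⁻¹ * v * u := by group
        _ = z * (v * u) := by rw [hvinv, inv_inv]; group
    have hnorm : ∀ v ∈ V, ∀ p ∈ (P : Subgroup G), v * p * v⁻¹ ∈ (P : Subgroup G) := by
      intro v hv p hp
      rw [← hCz, mem_centralizer_singleton_iff] at hp ⊢
      rcases hout v hv with hvP | hvi
      · have hv' := hvP
        rw [← hCz, mem_centralizer_singleton_iff] at hv'
        exact (((show Commute v z from hv').mul_left hp).mul_left
          (show Commute v z from hv').inv_left).eq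
      · have hzv : v * z = z⁻¹ * v := mul_inv_eq_iff_eq_mul.1 hvi
        have hzv' : v⁻¹ * z = z⁻¹ * v⁻¹ := by
          have h1 : z = (v * z * v⁻¹)⁻¹ := by rw [hvi, inv_inv]
          calc v⁻¹ * z = v⁻¹ * (v * z * v⁻¹)⁻¹ := by rw [← h1]
            _ = z⁻¹ * v⁻¹ := by group
        calc v * p * v⁻¹ * z = v * (p * (v⁻¹ * z)) := by group
          _ = v * ((p * z⁻¹) * v⁻¹) := by rw [hzv']; group
          _ = v * ((z⁻¹ * p) * v⁻¹) := by rw [((show Commute p z from hp).inv_right).eq]
          _ = (v * z * v⁻¹)⁻¹ * (v * p * v⁻¹) := by group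
          _ = z * (v * p * v⁻¹) := by rw [hvi, inv_inv]
    let π := QuotientGroup.mk' (Z.subgroupOf (P : Subgroup G))
    let θ : ↥(P : Subgroup G) →* ↥(P : Subgroup G) :=
      { toFun := fun p => ⟨u * (p : G) * u⁻¹, hnorm u huV p p.2⟩
        map_one' := Subtype.ext (by simp)
        map_mul' := fun a b => Subtype.ext (by simp [mul_assoc]) }
    let σ : ↥(P : Subgroup G) → ↥(P : Subgroup G) ⧸ Z.subgroupOf (P : Subgroup G) :=
      fun p => π p * π (θ p)
    have hσmul : ∀ a b, σ (a * b) = σ a * σ b := by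
      intro a b
      simp only [σ, map_mul]
      rw [mul_assoc, ← mul_assoc (π b), hcomm (π b) (π (θ a)), mul_assoc, ← mul_assoc (π a)]
    have huu : u * u ∈ (P : Subgroup G) := hprod u huV huP
    have hσθ : ∀ p, σ (θ p) = σ p := by
      intro p
      have h2 : π (θ (θ p)) = π p := by
        have he : θ (θ p) = ⟨u * u, huu⟩ * p * ⟨u * u, huu⟩⁻¹ := Subtype.ext (by
          show u * (u * (p : G) * u⁻¹) * u⁻¹ = u * u * (p : G) * (u * u)⁻¹
          group)
        rw [he, map_mul, map_mul, map_inv, hcomm (π _) (π p), mul_inv_cancel_right]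
      simp only [σ]
      rw [h2, hcomm]
    classical
    let f : V → (P : Subgroup G) ⧸ Z.subgroupOf (P : Subgroup G) := fun v =>
      if hv : (v : G) ∈ (P : Subgroup G) then σ ⟨v, hv⟩
      else σ ⟨(v : G) * u, hprod v v.2 hv⟩
    have hσ1 : σ 1 = 1 := by simp [σ]
    have hσuu : σ ⟨u * u, huu⟩ * (σ ⟨u * u, huu⟩)⁻¹ = 1 := mul_inv_cancel _
    -- evaluate through a square root free normal form
    have hf : ∀ a b : V, f (a * b) * (if (a : G) ∈ (P : Subgroup G) ∨ (b : G) ∈ (P : Subgroup G)
        then 1 else σ ⟨u * u, huu⟩) = f a * f b := by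
      intro a b
      by_cases ha : (a : G) ∈ (P : Subgroup G) <;> by_cases hb : (b : G) ∈ (P : Subgroup G)
      · simp only [f, Subgroup.coe_mul, ha, hb, mul_mem ha hb, dite_true, true_or, if_true, mul_one]
        exact hσmul ⟨a, ha⟩ ⟨b, hb⟩
      · have hab : (a : G) * b ∉ (P : Subgroup G) := fun h1 =>
          hb (by simpa using mul_mem (inv_mem ha) h1)
        simp only [f, Subgroup.coe_mul, ha, hb, hab, dite_true, dite_false, true_or, if_true, mul_one]
        rw [← hσmul]
        exact congrArg σ (Subtype.ext (mul_assoc _ _ _))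
      · have hab : (a : G) * b ∉ (P : Subgroup G) := fun h1 =>
          ha (by simpa using mul_mem h1 (inv_mem hb))
        simp only [f, Subgroup.coe_mul, ha, hb, hab, dite_true, dite_false, or_true, if_true, mul_one]
        have hbu : u⁻¹ * (b : G) * u ∈ (P : Subgroup G) := by
          have := hnorm u⁻¹ (inv_mem huV) b hb
          rwa [inv_inv] at this
        rw [show σ ⟨(a : G) * b * u, hprod _ (mul_mem a.2 b.2) hab⟩ =
          σ (⟨(a : G) * u, hprod _ a.2 ha⟩ * ⟨u⁻¹ * b * u, hbu⟩) from congrArg σ (Subtype.ext (by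
            show (a : G) * b * u = (a : G) * u * (u⁻¹ * b * u); group)), hσmul]
        congr 1
        rw [← hσθ]
        exact congrArg σ (Subtype.ext (by
          show u * (u⁻¹ * (b : G) * u) * u⁻¹ = b; group))
      · have hab : (a : G) * b ∈ (P : Subgroup G) := by
          rw [← hCz, mem_centralizer_singleton_iff]
          have h1 := (hout a a.2).resolve_left ha
          have h2 := (hout b b.2).resolve_left hb
          calc (a : G) * b * z = (a : G) * ((b : G) * z * (b : G)⁻¹) * b := by group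
            _ = ((a : G) * z * (a : G)⁻¹)⁻¹ * a * b := by rw [h2]; group
            _ = z * ((a : G) * b) := by rw [h1, inv_inv]; group
        simp only [f, Subgroup.coe_mul, ha, hb, hab, dite_true, dite_false, false_or, if_false]
        have hbu : u⁻¹ * ((b : G) * u) * u ∈ (P : Subgroup G) := by
          have := hnorm u⁻¹ (inv_mem huV) _ (hprod b b.2 hb)
          rwa [inv_inv] at this
        have e1 : σ ⟨(b : G) * u, hprod b b.2 hb⟩ = σ ⟨u⁻¹ * ((b : G) * u) * u, hbu⟩ := by
          rw [← hσθ ⟨u⁻¹ * ((b : G) * u) * u, hbu⟩]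
          exact congrArg σ (Subtype.ext (by
            show (b : G) * u = u * (u⁻¹ * ((b : G) * u) * u) * u⁻¹; group))
        rw [e1, ← hσmul, ← hσmul]
        exact congrArg σ (Subtype.ext (by
          show (a : G) * b * (u * u) = (a : G) * u * (u⁻¹ * ((b : G) * u) * u); group))
    -- commutators map to the identity
    have hK : ⁅V, V⁆ ≤ ((((center ((P : Subgroup G) ⧸ Z.subgroupOf (P : Subgroup G)))).comap π).map
        (P : Subgroup G).subtype) ∧ ∀ x ∈ ⁅V, V⁆, ∀ hx : x ∈ (P : Subgroup G), σ ⟨x, hx⟩ = 1 := by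
      let W : Subgroup G :=
        { carrier := {x | ∃ hx : x ∈ (P : Subgroup G), σ ⟨x, hx⟩ = 1}
          one_mem' := ⟨one_mem _, hσ1⟩
          mul_mem' := by
            rintro a b ⟨ha, ha'⟩ ⟨hb, hb'⟩
            exact ⟨mul_mem ha hb, by rw [show (⟨a * b, mul_mem ha hb⟩ : (P : Subgroup G)) =
              ⟨a, ha⟩ * ⟨b, hb⟩ from rfl, hσmul, ha', hb', one_mul]⟩
          inv_mem' := by
            rintro a ⟨ha, ha'⟩
            refine ⟨inv_mem ha, ?_⟩
            have := hσmul ⟨a⁻¹, inv_mem ha⟩ ⟨a, ha⟩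
            rw [show (⟨a⁻¹, inv_mem ha⟩ : (P : Subgroup G)) * ⟨a, ha⟩ = 1 from
              Subtype.ext (inv_mul_cancel a), hσ1, ha', mul_one] at this
            exact this.symm }
      have hle : ⁅V, V⁆ ≤ W := by
        rw [commutator_le]
        intro a ha b hb
        have hmemP : ⁅a, b⁆ ∈ (P : Subgroup G) := by
          rw [← hCz, mem_centralizer_singleton_iff]
          have hsgn : ∀ v ∈ V, v * z * v⁻¹ = z ∨ v * z * v⁻¹ = z⁻¹ := fun v hv =>
            (hout v hv).imp_left fun hp => by
              rw [← hCz, mem_centralizer_singleton_iff] at hp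
              rw [hp, mul_inv_cancel_right]
          have hsgn' : ∀ v ∈ V, v⁻¹ * z * v = v * z * v⁻¹ := by
            intro v hv
            rcases hsgn v hv with e | e
            · rw [e]
              conv_lhs => rw [← e]
              group
            · rw [e]
              have : z⁻¹ = v * z * v⁻¹ := e.symm
              calc v⁻¹ * z * v = (v⁻¹ * z⁻¹ * v)⁻¹ := by group
                _ = (v⁻¹ * (v * z * v⁻¹) * v)⁻¹ := by rw [← this]
                _ = z⁻¹ := by group
          have key : ⁅a, b⁆ * z * ⁅a, b⁆⁻¹ = z := by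
            have e0 : ⁅a, b⁆ * z * ⁅a, b⁆⁻¹ = a * (b * (a⁻¹ * (b⁻¹ * z * b) * a) * b⁻¹) * a⁻¹ := by
              rw [commutatorElement_def]; group
            rw [e0, hsgn' b hb]
            rcases hsgn b hb with eb | eb
            · rw [eb, hsgn' a ha]
              rcases hsgn a ha with ea | ea
              · rw [ea, eb, ea]
              · rw [ea, show b * z⁻¹ * b⁻¹ = (b * z * b⁻¹)⁻¹ by group, eb,
                  show a * z⁻¹ * a⁻¹ = (a * z * a⁻¹)⁻¹ by group, ea, inv_inv]
            · rw [eb, show a⁻¹ * z⁻¹ * a = (a⁻¹ * z * a)⁻¹ by group, hsgn' a ha]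
              rcases hsgn a ha with ea | ea
              · rw [ea, show b * z⁻¹ * b⁻¹ = (b * z * b⁻¹)⁻¹ by group, eb, inv_inv, ea]
              · rw [ea, inv_inv, eb, show a * z⁻¹ * a⁻¹ = (a * z * a⁻¹)⁻¹ by group, ea, inv_inv]
          exact mul_inv_eq_iff_eq_mul.1 key
        refine ⟨hmemP, ?_⟩
        set A' : V := ⟨a, ha⟩
        set B' : V := ⟨b, hb⟩
        have hBA : f (A' * B') = f (B' * A') := by
          have h1 := hf A' B'
          have h2 := hf B' A'
          rw [hcomm (f B'), ← h1] at h2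
          by_cases hc : (A' : G) ∈ (P : Subgroup G) ∨ (B' : G) ∈ (P : Subgroup G)
          · rw [if_pos hc, if_pos hc.symm] at h2; simpa using h2.symm
          · rw [if_neg hc, if_neg fun h' => hc h'.symm] at h2; exact (mul_right_cancel h2).symm
        have h3 := hf (⁅A', B'⁆) (B' * A')
        have hcoe : ((⁅A', B'⁆ : V) : G) = ⁅a, b⁆ := rfl
        rw [show ⁅A', B'⁆ * (B' * A') = A' * B' by rw [commutatorElement_def]; group,
          if_pos (Or.inl (hcoe ▸ hmemP)), mul_one, hBA] at h3
        have h4 : f ⁅A', B'⁆ = 1 := mul_eq_right.1 h3.symm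
        simp only [f, hcoe, hmemP, dite_true] at h4
        exact h4
      refine ⟨fun x hx => ⟨⟨x, (hle hx).fst⟩, ?_, rfl⟩, fun x hx hx' => (hle hx).snd⟩
      exact mem_center_iff.2 fun w => hcomm _ _
    have hneg : ∀ p : (P : Subgroup G), π (θ p) = (π p)⁻¹ := fun p =>
      eq_inv_of_mul_eq_one_right (hK.2 p (hPV' p.2) p.2)
    -- `u` then centralises the commutators of `P`
    apply not_commutative h P
    refine ⟨⟨fun a b => ?_⟩⟩
    by_contra hab
    set c : (P : Subgroup G) := ⁅a, b⁆ with hc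
    have hcZ : c ∈ Z.subgroupOf (P : Subgroup G) := by
      rw [← QuotientGroup.ker_mk' (Z.subgroupOf (P : Subgroup G)), MonoidHom.mem_ker,
        map_commutatorElement, commutatorElement_eq_one_iff_mul_comm]
      exact hcomm _ _
    have hc1 : c ≠ 1 := fun h1 => hab (commutatorElement_eq_one_iff_mul_comm.1 h1)
    -- commutators are bilinear modulo the centre
    have hcen : ∀ p : (P : Subgroup G), π p = 1 → ∀ q : (P : Subgroup G), p * q = q * p := by
      intro p hp q
      have hpZ : p ∈ Z.subgroupOf (P : Subgroup G) := (QuotientGroup.eq_one_iff p).1 hp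
      exact Subtype.ext (mem_centralizer_iff.1 (hZP hpZ) (q : G) q.2).symm
    have hmod : ∀ p q p' q' : (P : Subgroup G), π p = π p' → π q = π q' → ⁅p, q⁆ = ⁅p', q'⁆ := by
      intro p q p' q' hp hq
      have e1 : ∀ w x y : (P : Subgroup G), π w = 1 → ⁅x * w, y⁆ = ⁅x, y⁆ := by
        intro w x y hw
        have := hcen w hw y
        rw [commutatorElement_def, commutatorElement_def, mul_inv_rev]
        calc x * w * y * (w⁻¹ * x⁻¹) * y⁻¹ = x * (w * y * w⁻¹) * x⁻¹ * y⁻¹ := by group
          _ = _ := by rw [this]; group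
      have e2 : ∀ w x y : (P : Subgroup G), π w = 1 → ⁅x, y * w⁆ = ⁅x, y⁆ := by
        intro w x y hw
        rw [← commutatorElement_inv, e1 w y x hw, commutatorElement_inv]
      have hw1 : π (p'⁻¹ * p) = 1 := by rw [map_mul, map_inv, hp, inv_mul_cancel]
      have hw2 : π (q'⁻¹ * q) = 1 := by rw [map_mul, map_inv, hq, inv_mul_cancel]
      calc ⁅p, q⁆ = ⁅p' * (p'⁻¹ * p), q' * (q'⁻¹ * q)⁆ := by simp
        _ = ⁅p', q'⁆ := by rw [e1 _ _ _ hw1, e2 _ _ _ hw2]
    have hθc : θ c = c := by
      rw [hc, map_commutatorElement, hmod (θ a) (θ b) a⁻¹ b⁻¹ (by rw [hneg, map_inv])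
        (by rw [hneg, map_inv])]
      have hcc : ∀ q : (P : Subgroup G), c * q = q * c :=
        hcen c ((QuotientGroup.eq_one_iff c).2 hcZ)
      rw [commutatorElement_def, inv_inv, inv_inv]
      have e := hcc (b * a)
      rw [hc, commutatorElement_def] at e
      calc a⁻¹ * b⁻¹ * a * b = (b * a)⁻¹ * ((a * b * a⁻¹ * b⁻¹) * (b * a)) := by group
        _ = a * b * a⁻¹ * b⁻¹ := by rw [e]; group
    -- but `u` inverts every element of `Z`
    obtain ⟨i, hi⟩ := mem_zpowers_iff.1 (show (c : G) ∈ zpowers z from hcZ)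
    have hci : u * (c : G) * u⁻¹ = (c : G)⁻¹ := by
      rw [← hi, ← MulAut.conj_apply, map_zpow, MulAut.conj_apply, huinv, inv_zpow]
    have hcc2 : (c : G) = (c : G)⁻¹ := (congrArg Subtype.val hθc).symm.trans hci
    apply hc1
    refine Subtype.ext ?_
    have hc2 : (c : G) * (c : G) = 1 := by
      nth_rw 2 [hcc2]; exact mul_inv_cancel _
    have hc27 : (c : G) ^ 27 = 1 := by
      have := congrArg Subtype.val (pow_card_eq_one' (x := c))
      rwa [h27] at this
    rwa [show (27 : ℕ) = 2 * 13 + 1 from rfl, pow_succ, pow_mul, pow_two, hc2, one_pow,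
      one_mul] at hc27
  · push Not at hu
    have hVP : V = (P : Subgroup G) := le_antisymm hu hPV
    rw [hVP] at hPV'
    haveI : Group.IsNilpotent (P : Subgroup G) := P.2.isNilpotent
    haveI : Nontrivial (P : Subgroup G) := Finite.one_lt_card_iff_nontrivial.1 (by omega)
    have h1 : commutator (P : Subgroup G) = ⊤ := by
      rw [eq_top_iff]
      intro x _
      have := hPV' x.2
      rw [← Subgroup.map_subtype_commutator] at this
      obtain ⟨y, hy, hyx⟩ := this
      rwa [← Subtype.ext hyx]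
    haveI : Group.IsSolvable (P : Subgroup G) := inferInstance
    exact (Group.IsSolvable.commutator_lt_top_of_nontrivial (G := (P : Subgroup G))).ne h1

end Cfsg.Agent.Lib.TwoTimesAlt.O1512
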