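import Cfsg.Agent.Lib.TwoTimesAlt.Structure
import Cfsg.Agent.Lib.TwoTimesAlt.Counting
import Cfsg.Agent.Lib.TwoTimesAlt.Order1512
import Cfsg.Agent.Lib.AutPSL.Card
import Cfsg.Agent.Lib.Linear.Order
import Cfsg.Agent.S1644
import Cfsg.Agent.S2202

/-!
Groups with a 2-central involution centraliser `⟨J⟩ × A_m`: `PΓL(2,8)` or `J₁`.
Owner: helper7.
-/

set_option autoImplicit false
set_option linter.style.haveILetI false

open Subgroup

namespace Cfsg.Agent.Lib.TwoTimesAlt

variable {G : Type*} [Group G] [Finite G]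

namespace Data

variable {m : ℕ} (d : Data G m)

theorem index_top2_eq (hns : ¬ Group.IsSolvable G) :
    d.top2.index = d.top2.relIndex (centralizer ({d.J} : Set G)) := by
  have h : (d.top2 ⊔ centralizer ({d.J} : Set G)) = ⊤ := d.top2_sup_cent hns
  rw [← relIndex_top_right, ← h, sup_comm, relIndex_sup_right]

theorem card_centralizer_conj (t : G) (ht : orderOf t = 2) :
    ∃ g : G, g * d.J * g⁻¹ = t ∧ ∀ c : G, c * t = t * c →
      g⁻¹ * c * g ∈ centralizer ({d.J} : Set G) := by
  obtain ⟨g, hg⟩ := d.exists_conj_J t ht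
  refine ⟨g, hg, fun c hc => mem_centralizer_singleton_iff.2 ?_⟩
  rw [← hg] at hc
  calc g⁻¹ * c * g * d.J = g⁻¹ * (c * (g * d.J * g⁻¹)) * g := by group
    _ = _ := by rw [hc]; group

end Data

section Four

variable (d : Data G 4)

theorem card_cent_four : Nat.card (centralizer ({d.J} : Set G)) = 24 := by
  rw [d.card_cent, Nat.card_eq_fintype_card,
    show Fintype.card (alternatingGroup (Fin 4)) = 12 by decide +kernel]

theorem invol_mem_S {x : G} (hx : x ∈ centralizer ({d.J} : Set G)) (h1 : x * x = 1) :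
    x ∈ (d.S : Subgroup G) := by
  rw [← d.centralizer_S, mem_centralizer_iff]
  intro s hs
  have hab : ∀ a b : alternatingGroup (Fin 4), a * a = 1 → b * b = 1 → a * b = b * a := by
    decide +kernel
  have hlift : ∀ u ∈ centralizer ({d.J} : Set G), u * u = 1 →
      ∃ a : d.T, (a * a = 1) ∧ ((a : G) = u ∨ (a : G) = d.J * u) := by
    intro u hu huu
    rcases (d.mem_iff u).1 hu with h | h
    · exact ⟨⟨u, h⟩, Subtype.ext huu, Or.inl rfl⟩
    · refine ⟨⟨_, h⟩, Subtype.ext ?_, Or.inr rfl⟩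
      show d.J * u * (d.J * u) = 1
      rw [(d.commute_J hu).symm.mul_mul_mul_comm, d.JJ, huu, one_mul]
  obtain ⟨a, ha, hax⟩ := hlift x hx h1
  obtain ⟨b, hb, hbs⟩ := hlift s (d.sylow_le hs) (d.sq_S hs)
  have hcomm : a * b = b * a := d.e.injective (by
    rw [map_mul, map_mul]
    exact hab _ _ (by rw [← map_mul, ha, map_one]) (by rw [← map_mul, hb, map_one]))
  have hc : (a : G) * b = b * a := congrArg Subtype.val hcomm
  have hJx : Commute d.J x := d.commute_J hx
  have hJs : Commute d.J s := d.commute_J (d.sylow_le hs)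
  have hJ2 : ∀ u : G, d.J * (d.J * u) = u := fun u => by rw [← mul_assoc, d.JJ, one_mul]
  rcases hax with e | e <;> rcases hbs with f | f <;> rw [e, f] at hc
  · exact hc.symm
  · have h2 : d.J * (x * s) = d.J * (s * x) := by
      calc d.J * (x * s) = x * (d.J * s) := by rw [← mul_assoc, hJx.eq, mul_assoc]
        _ = d.J * s * x := hc
        _ = _ := by rw [mul_assoc]
    exact (mul_left_cancel h2).symm
  · have h2 : d.J * (x * s) = d.J * (s * x) := by
      calc d.J * (x * s) = d.J * x * s := by rw [mul_assoc]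
        _ = s * (d.J * x) := hc
        _ = _ := by rw [← mul_assoc, ← hJs.eq, mul_assoc]
    exact (mul_left_cancel h2).symm
  · have h2 : x * s = s * x := by
      calc x * s = d.J * x * (d.J * s) := by rw [hJx.symm.mul_mul_mul_comm, d.JJ, one_mul]
        _ = d.J * s * (d.J * x) := hc
        _ = s * x := by rw [hJs.symm.mul_mul_mul_comm, d.JJ, one_mul]
    exact h2.symm

theorem cent_le_normalizer :
    centralizer ({d.J} : Set G) ≤ normalizer ((d.S : Subgroup G) : Set G) := by
  intro c hc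
  rw [mem_normalizer_iff]
  have key : ∀ c ∈ centralizer ({d.J} : Set G), ∀ x ∈ (d.S : Subgroup G),
      c * x * c⁻¹ ∈ (d.S : Subgroup G) := by
    intro c hc x hx
    refine invol_mem_S d (mul_mem (mul_mem hc (d.sylow_le hx)) (inv_mem hc)) ?_
    rw [show c * x * c⁻¹ * (c * x * c⁻¹) = c * (x * x) * c⁻¹ by group, d.sq_S hx, mul_one,
      mul_inv_cancel]
  intro x
  refine ⟨key c hc x, fun h => ?_⟩
  have := key c⁻¹ (inv_mem hc) _ h
  rwa [inv_inv, show c⁻¹ * (c * x * c⁻¹) * c = x by group] at this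

theorem card_normalizer : Nat.card (normalizer ((d.S : Subgroup G) : Set G)) = 168 := by
  rw [← card_mul_relIndex (cent_le_normalizer d), card_cent_four, d.card_normalizer_stab]

/-- The Sylow normaliser is strongly embedded, giving the counting hypotheses. -/
theorem exists_countHyp [IsSimpleGroup G] (hns : ¬ Group.IsSolvable G) :
    ∃ h : Count.Hyp G, h.M = normalizer ((d.S : Subgroup G) : Set G) := by
  set M : Subgroup G := normalizer ((d.S : Subgroup G) : Set G) with hM
  haveI : Fact (Nat.Prime 2) := ⟨Nat.prime_two⟩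
  have hinvS : ∀ t ∈ M, orderOf t = 2 → t ∈ (d.S : Subgroup G) := by
    intro t ht ht2
    have hp : IsPGroup 2 (zpowers t) :=
      IsPGroup.of_card (n := 1) (by rw [Nat.card_zpowers, ht2, pow_one])
    obtain ⟨Q, hQ⟩ := hp.exists_le_sylow
    have h1 : zpowers t ⊓ M ≤ (d.S : Subgroup G) := by
      exact (IsPGroup.inf_normalizer_sylow hp d.S).le.trans inf_le_right
    exact h1 ⟨mem_zpowers t, ht⟩
  have hne : M ≠ ⊤ := by
    intro hT
    haveI : (d.S : Subgroup G).Normal := normalizer_eq_top_iff.1 hT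
    rcases (inferInstance : (d.S : Subgroup G).Normal).eq_bot_or_eq_top with h | h
    · exact d.J_ne_one (mem_bot.1 (h ▸ d.mem_S))
    · exact d.top2_not_comm hns
        ⟨⟨fun a b => Subtype.ext (d.comm_S (h ▸ mem_top _) (h ▸ mem_top _))⟩⟩
  have hse : Cfsg.IsStronglyEmbedded M := by
    refine ⟨hne, even_iff_two_dvd.2 ?_, fun g hg => ?_⟩
    · rw [hM, card_normalizer d]; norm_num
    rw [← Nat.not_even_iff_odd]
    intro he
    obtain ⟨i, hi⟩ := exists_prime_orderOf_dvd_card'
      (G := ↥(M ⊓ M.map (MulAut.conj g).toMonoidHom)) 2 (even_iff_two_dvd.1 he)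
    have hio : orderOf (i : G) = 2 := by rw [Subgroup.orderOf_coe, hi]
    obtain ⟨hiM, x, hxM, hxi⟩ := i.2
    have hxi' : g * x * g⁻¹ = i := hxi
    have hxo : orderOf x = 2 := by
      rw [← hio, ← hxi']
      exact (Involutions.Basic.orderOf_conj_eq g x).symm
    have hxS := hinvS x hxM hxo
    have hiS := hinvS i hiM hio
    obtain ⟨n, hn, hn'⟩ := Transfer.Fusion.controls_of_isMulCommutative d.S d.commutative_S
      x hxS g (hxi' ▸ hiS)
    -- conjugate back to `J`
    obtain ⟨k, hk⟩ := d.exists_conj_J x hxo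
    obtain ⟨v, hv, hv'⟩ := Transfer.Fusion.controls_of_isMulCommutative d.S d.commutative_S
      d.J d.mem_S k (hk ▸ hxS)
    rw [hk] at hv'
    apply hg
    have hc : v⁻¹ * (n⁻¹ * g) * v ∈ centralizer ({d.J} : Set G) := by
      rw [mem_centralizer_singleton_iff]
      have hx1 : n⁻¹ * g * x = x * (n⁻¹ * g) := by
        calc n⁻¹ * g * x = n⁻¹ * (g * x * g⁻¹) * g := by group
          _ = n⁻¹ * (n * x * n⁻¹) * g := by rw [hn']
          _ = _ := by group
      calc v⁻¹ * (n⁻¹ * g) * v * d.J = v⁻¹ * (n⁻¹ * g * (v * d.J * v⁻¹)) * v := by group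
        _ = v⁻¹ * ((v * d.J * v⁻¹) * (n⁻¹ * g)) * v := by rw [hv', hx1]
        _ = _ := by group
    have hc' := cent_le_normalizer d hc
    have : n * (v * (v⁻¹ * (n⁻¹ * g) * v) * v⁻¹) ∈ M :=
      mul_mem hn (mul_mem (mul_mem hv hc') (inv_mem hv))
    rwa [show n * (v * (v⁻¹ * (n⁻¹ * g) * v) * v⁻¹) = g by group] at this
  refine ⟨⟨M, (d.S : Subgroup G), hse, card_normalizer d, d.card_S, le_normalizer,
    le_rfl, d.centralizer_S, hinvS, fun x hx => d.sq_S hx, fun t c ht hc hct => ?_⟩, rfl⟩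
  obtain ⟨g, -, hg⟩ := d.card_centralizer_conj t ht
  have h1 := hg c hct
  have h2 := orderOf_dvd_natCard (⟨_, h1⟩ : centralizer ({d.J} : Set G))
  have h3 : orderOf (g⁻¹ * c * g) = 7 := by
    have := Involutions.Basic.orderOf_conj_eq g⁻¹ c
    rw [inv_inv] at this
    rw [this, hc]
  rw [← Subgroup.orderOf_coe, h3, card_cent_four] at h2
  norm_num at h2

include d in
/-- There is no simple group with involution centraliser `2 × A₄`. -/
theorem not_simple [IsSimpleGroup G] (hns : ¬ Group.IsSolvable G) : False := by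
  obtain ⟨h, hM⟩ := exists_countHyp d hns
  refine O1512.absurd_hyp (G := G)
    ⟨h.M, h.cardM, Count.card_eq h, inferInstance, fun t c ht hc => ?_,
      fun r hr => Count.card_centralizer_seven h hr, fun Q hQ a ha b hb => ?_⟩
  · obtain ⟨g, -, hg⟩ := d.card_centralizer_conj t ht
    exact ⟨g, hM ▸ cent_le_normalizer d (hg c hc)⟩
  · haveI : Fact (Nat.Prime 2) := ⟨Nat.prime_two⟩
    obtain ⟨S', hS'⟩ := hQ.exists_le_sylow
    obtain ⟨g, hg⟩ := MulAction.exists_smul_eq G d.S S'
    have hconj : ∀ y ∈ Q, g⁻¹ * y * g ∈ (d.S : Subgroup G) := by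
      intro y hy
      have h1 : y ∈ (S' : Subgroup G) := hS' hy
      rw [← hg, Sylow.coe_subgroup_smul] at h1
      obtain ⟨s, hs, hsy⟩ := h1
      have : y = g * s * g⁻¹ := hsy.symm
      rw [this, show g⁻¹ * (g * s * g⁻¹) * g = s by group]
      exact hs
    refine ⟨?_, ?_⟩
    · have h1 := d.sq_S (hconj a ha)
      calc a * a = g * (g⁻¹ * a * g * (g⁻¹ * a * g)) * g⁻¹ := by group
        _ = 1 := by rw [h1]; group
    · have h1 := d.comm_S (hconj a ha) (hconj b hb)
      calc a * b = g * (g⁻¹ * a * g * (g⁻¹ * b * g)) * g⁻¹ := by group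
        _ = b * a := by rw [h1]; group

include d in
theorem nonempty_mulEquiv_mulAut (hns : ¬ Group.IsSolvable G) :
    ∃ (F : Type) (_ : Field F) (_ : Fintype F), Fintype.card F = 8 ∧
      Nonempty (G ≃* MulAut (Matrix.ProjectiveSpecialLinearGroup (Fin 2) F)) := by
  set L : Subgroup G := d.top2 with hL
  set C : Subgroup G := centralizer ({d.J} : Set G) with hC
  haveI : Fact (Nat.Prime 2) := ⟨Nat.prime_two⟩
  haveI hLs : IsSimpleGroup L := d.isSimpleGroup_top2 hns
  have hSle : (d.S : Subgroup G) ≤ L ⊓ C := le_inf d.S_le_top2 d.sylow_le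
  have hcases : Nat.card ↥(L ⊓ C) = 8 ∨ Nat.card ↥(L ⊓ C) = 24 := by
    have h1 : 8 ∣ Nat.card ↥(L ⊓ C) := d.card_S ▸ card_dvd_of_le hSle
    have h2 : Nat.card ↥(L ⊓ C) ∣ 24 := card_cent_four d ▸ card_dvd_of_le inf_le_right
    have := Nat.le_of_dvd (by norm_num) h2
    interval_cases hk : Nat.card ↥(L ⊓ C) <;> omega
  rcases hcases with h8 | h24
  swap
  · exfalso
    have h1 : L ⊓ C = C := eq_of_le_of_card_ge inf_le_right (by rw [h24, card_cent_four])
    have hT : L = ⊤ := by
      have := d.top2_sup_cent hns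
      rwa [sup_eq_left.2 (inf_eq_right.1 h1)] at this
    haveI : IsSimpleGroup G := by
      refine (MulEquiv.isSimpleGroup_congr ?_).1 hLs
      exact (MulEquiv.subgroupCongr hT).trans Subgroup.topEquiv
    exact not_simple d hns
  have hLC : L ⊓ C = (d.S : Subgroup G) :=
    (eq_of_le_of_card_ge hSle (by rw [h8, d.card_S])).symm
  -- involution centralisers in `L` are commutative
  have hcent : ∀ t : L, orderOf t = 2 → IsMulCommutative ↥(centralizer ({t} : Set L)) := by
    intro t ht
    obtain ⟨g, -, hg⟩ := d.card_centralizer_conj (t : G) (by rw [Subgroup.orderOf_coe, ht])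
    refine ⟨⟨fun a b => Subtype.ext (Subtype.ext ?_)⟩⟩
    have hmem : ∀ c : centralizer ({t} : Set L), g⁻¹ * ((c : L) : G) * g ∈ (d.S : Subgroup G) := by
      intro c
      rw [← hLC]
      refine ⟨?_, hg _ (congrArg Subtype.val (mem_centralizer_singleton_iff.1 c.2))⟩
      have := Subgroup.Normal.conj_mem (H := L) inferInstance _ (c : L).2 g⁻¹
      rwa [inv_inv] at this
    have h1 := d.comm_S (hmem a) (hmem b)
    show ((a : L) : G) * ((b : L) : G) = ((b : L) : G) * ((a : L) : G)
    calc ((a : L) : G) * ((b : L) : G) =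
          g * (g⁻¹ * ((a : L) : G) * g * (g⁻¹ * ((b : L) : G) * g)) * g⁻¹ := by group
      _ = _ := by rw [h1]; group
  set P : Sylow 2 L := d.S.subtype d.S_le_top2 with hP
  have hPcard : Nat.card (P : Subgroup L) = 8 := by
    rw [← d.card_S]
    exact Nat.card_congr (subgroupOfEquivOfLe d.S_le_top2).toEquiv
  have heven : Even (Nat.card L) :=
    even_iff_two_dvd.2 (dvd_trans (by rw [hPcard]; norm_num) (card_subgroup_dvd_card (P : Subgroup L)))
  have hncomm : ¬ IsMulCommutative L := d.top2_not_comm hns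
  rcases Cfsg.Agent.S2202.result heven hcent with hc | hn | ⟨F, _, _, A, _, _, hF, hA, ⟨φ⟩⟩
  · exfalso
    obtain ⟨g, hg⟩ := (hc P).exists_ofOrder_eq_natCard
    have hgS : ((g : L) : G) ∈ (d.S : Subgroup G) := g.2
    have h1 : g * g = 1 := Subtype.ext (Subtype.ext (d.sq_S hgS))
    have h2 : orderOf g ≤ 2 := Nat.le_of_dvd (by norm_num)
      (orderOf_dvd_of_pow_eq_one (by rw [pow_two]; exact h1))
    rw [hg] at h2
    change Nat.card (P : Subgroup L) ≤ 2 at h2
    rw [hPcard] at h2
    omega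
  · exfalso
    rcases (hn P).eq_bot_or_eq_top with h | h
    · rw [h, Subgroup.card_bot] at hPcard; omega
    · refine hncomm ⟨⟨fun a b => Subtype.ext ?_⟩⟩
      have hmem : ∀ c : L, (c : G) ∈ (d.S : Subgroup G) := fun c => by
        have : c ∈ (P : Subgroup L) := h ▸ mem_top c
        exact this
      exact d.comm_S (hmem a) (hmem b)
  haveI := hF
  -- the abelian factor is trivial
  have hAsub : Subsingleton A := by
    let π : L →* A := (MonoidHom.snd _ A).comp φ.toMonoidHom
    have hπs : Function.Surjective π := fun a => ⟨φ.symm (1, a), by simp [π]⟩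
    rcases (π.normal_ker).eq_bot_or_eq_top with h | h
    · exfalso
      have hinj := π.ker_eq_bot_iff.1 h
      exact hncomm ⟨⟨fun a b => hinj (by rw [map_mul, map_mul, mul_comm])⟩⟩
    · refine ⟨fun a b => ?_⟩
      obtain ⟨x, rfl⟩ := hπs a
      obtain ⟨y, rfl⟩ := hπs b
      rw [show π x = 1 from MonoidHom.mem_ker.1 (h ▸ mem_top x),
        show π y = 1 from MonoidHom.mem_ker.1 (h ▸ mem_top y)]
  haveI := hAsub
  have hA1 : Nat.card A = 1 := Nat.card_unique
  have hcardL : Nat.card L = Fintype.card F * (Fintype.card F - 1) * (Fintype.card F + 1) := by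
    rw [Nat.card_congr φ.toEquiv, Nat.card_prod, hA1, mul_one, Linear.card_SL_two]
  -- the field has eight elements
  obtain ⟨n, hn2, hn⟩ := FiniteField.card F 2
  have hq : Fintype.card F = 8 := by
    have h1 := card_mul_index (P : Subgroup L)
    have h2 : ¬ 2 ∣ (P : Subgroup L).index := P.not_dvd_index
    rw [hPcard, hcardL, hn] at h1
    have hodd : Odd ((2 ^ (n : ℕ) - 1) * (2 ^ (n : ℕ) + 1)) := by
      have he : Even (2 ^ (n : ℕ)) := Nat.even_pow.2 ⟨even_two, n.pos.ne'⟩
      refine Odd.mul ?_ he.add_one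
      obtain ⟨k, hk⟩ := he
      have : 1 ≤ 2 ^ (n : ℕ) := Nat.one_le_two_pow
      exact ⟨k - 1, by omega⟩
    have h3 : 2 ^ (n : ℕ) = 8 := by
      have hco1 : Nat.Coprime 8 ((2 ^ (n : ℕ) - 1) * (2 ^ (n : ℕ) + 1)) :=
        Nat.Coprime.pow_left 3 (Nat.coprime_two_left.2 hodd)
      have hd1 : 8 ∣ 2 ^ (n : ℕ) :=
        hco1.dvd_of_dvd_mul_right ⟨(P : Subgroup L).index, by rw [← mul_assoc]; exact h1.symm⟩
      have hco2 : Nat.Coprime (2 ^ (n : ℕ)) (P : Subgroup L).index :=
        Nat.Coprime.pow_left _ ((Nat.prime_two.coprime_iff_not_dvd).2 h2)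
      have hd2 : 2 ^ (n : ℕ) ∣ 8 := hco2.dvd_of_dvd_mul_right
        ⟨(2 ^ (n : ℕ) - 1) * (2 ^ (n : ℕ) + 1), by rw [← mul_assoc]; exact h1⟩
      exact Nat.dvd_antisymm hd2 hd1
    rw [hn, h3]
  refine ⟨F, inferInstance, inferInstance, hq, ?_⟩
  set PSL := Matrix.ProjectiveSpecialLinearGroup (Fin 2) F
  haveI : Finite PSL := Finite.of_surjective _ (QuotientGroup.mk'_surjective _)
  have hPSL : Nat.card PSL = 504 := by
    rw [Linear.card_PSL_two_of_even (by rw [hq]; decide), hq]
  have hSL : Nat.card (Matrix.SpecialLinearGroup (Fin 2) F) = 504 := by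
    rw [Linear.card_SL_two, hq]
  have hbij : Function.Bijective
      (QuotientGroup.mk' (Subgroup.center (Matrix.SpecialLinearGroup (Fin 2) F))) :=
    (Nat.bijective_iff_surjective_and_card _).2
      ⟨QuotientGroup.mk'_surjective _, by rw [hSL]; exact hPSL.symm⟩
  letI : Unique A := uniqueOfSubsingleton 1
  let ψ : L ≃* PSL := φ.trans (MulEquiv.prodUnique.trans (MulEquiv.ofBijective _ hbij))
  let ι : G →* MulAut PSL :=
    (MulAut.congr ψ).toMonoidHom.comp (MulAut.conjNormal : G →* MulAut L)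
  have hker : ι.ker = ⊥ := by
    by_contra hne
    apply hncomm
    refine ⟨⟨fun a b => Subtype.ext ?_⟩⟩
    have ha : (a : G) ∈ ι.ker := d.top2_le hne a.2
    rw [MonoidHom.mem_ker] at ha
    have h1 : (MulAut.conjNormal (a : G) : MulAut L) = 1 :=
      (MulAut.congr ψ).injective (ha.trans (map_one (MulAut.congr ψ)).symm)
    have h2 := congrArg (fun e : MulAut L => ((e b : L) : G)) h1
    simp only [MulAut.conjNormal_apply, MulAut.one_apply] at h2
    exact mul_inv_eq_iff_eq_mul.1 h2
  have hG : Nat.card G = 1512 := by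
    have h1 := card_mul_index L
    have h2 := card_mul_relIndex (show L ⊓ C ≤ C from inf_le_right)
    rw [inf_relIndex_right, h8, card_cent_four] at h2
    rw [hcardL, hq, d.index_top2_eq hns, ← hC, show L.relIndex C = 3 by omega] at h1
    exact h1.symm
  have hAut : Nat.card (MulAut PSL) = 1512 := by
    rw [AutPSL.card_mulAut_PSL (p := 2) (f := 3) (by rw [hq]; norm_num) le_rfl, if_pos rfl,
      Linear.card_PGL_eq_card_SL, hSL]
  have hinj : Function.Injective ι := ι.ker_eq_bot_iff.1 hker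
  exact ⟨MulEquiv.ofBijective ι
    ((Nat.bijective_iff_injective_and_card ι).2 ⟨hinj, hG.trans hAut.symm⟩)⟩

end Four

theorem isoJ1_of_five (d : Data G 5) (hns : ¬ Group.IsSolvable G) : Cfsg.Spor.IsoJ1 G := by
  set L : Subgroup G := d.top2 with hL
  haveI hLs : IsSimpleGroup L := d.isSimpleGroup_top2 hns
  haveI : IsSimpleGroup (alternatingGroup (Fin 5)) :=
    alternatingGroup.isSimpleGroup (α := Fin 5) (by simp)
  have hTL : d.T ≤ L := by
    have hN : ((L.subgroupOf d.T).map d.e.toMonoidHom).Normal :=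
      Subgroup.Normal.map inferInstance _ d.e.surjective
    rcases hN.eq_bot_or_eq_top with h | h
    · exfalso
      obtain ⟨a, b, ha, -, ha1, -⟩ := d.exists_four_pair
      have h1 : d.e ⟨a, ha.2⟩ ∈ (L.subgroupOf d.T).map d.e.toMonoidHom :=
        ⟨⟨a, ha.2⟩, d.S_le_top2 ha.1, rfl⟩
      rw [h, mem_bot] at h1
      exact ha1 (congrArg Subtype.val ((map_eq_one_iff d.e d.e.injective).1 h1))
    · intro t ht
      have h1 : d.e ⟨t, ht⟩ ∈ (L.subgroupOf d.T).map d.e.toMonoidHom := h ▸ mem_top _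
      obtain ⟨u, hu, hu'⟩ := h1
      rw [d.e.injective hu'] at hu
      exact hu
  have hCL : centralizer ({d.J} : Set G) ≤ L := by
    intro c hc
    rcases (d.mem_iff c).1 hc with h | h
    · exact hTL h
    · have := mul_mem d.J_mem_top2 (hTL h)
      rwa [← mul_assoc, d.JJ, one_mul] at this
  have hT : L = ⊤ := by
    have := d.top2_sup_cent hns
    rwa [sup_eq_left.2 hCL] at this
  haveI : IsSimpleGroup G :=
    (MulEquiv.isSimpleGroup_congr ((MulEquiv.subgroupCongr hT).trans Subgroup.topEquiv)).1 hLs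
  obtain ⟨e⟩ := d.nonempty_mulEquiv
  exact Cfsg.Agent.S1644.result d.S d.commutative_S d.card_S d.J d.orderJ e

end Cfsg.Agent.Lib.TwoTimesAlt
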