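import Cfsg.Agent.Lib.TwoTimesAlt.Basic
import Cfsg.Agent.Lib.Coprime.Generation
import Cfsg.Agent.Lib.Transfer.Fusion
import Cfsg.Agent.Lib.Induced.Burnside
import Cfsg.Agent.Lib.Cores.Basic

/-!
The involutions of a group with centraliser `⟨J⟩ × A_m` generate a simple normal subgroup.
Owner: helper7.
-/

set_option autoImplicit false
set_option linter.style.haveILetI false

open Subgroup

namespace Cfsg.Agent.Lib.TwoTimesAlt

/-- Lagrange inside a subgroup. -/
theorem card_mul_relIndex {G : Type*} [Group G] {H K : Subgroup G} (h : H ≤ K) :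
    Nat.card H * H.relIndex K = Nat.card K := by
  have := relIndex_mul_relIndex (⊥ : Subgroup G) H K bot_le h
  rwa [relIndex_bot_left, relIndex_bot_left] at this

/-- The finite facts on `A₄` and `A₅` used below. -/
structure SmallFacts (m : ℕ) : Prop where
  card : Nat.card (alternatingGroup (Fin m)) = 12 ∨ Nat.card (alternatingGroup (Fin m)) = 60
  sq : ∀ a : alternatingGroup (Fin m), a ^ 8 = 1 → a * a = 1
  conj : ∀ a b : alternatingGroup (Fin m), a * a = 1 → a ≠ 1 → b * b = 1 → b ≠ 1 →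
    ∃ c, c * a * c⁻¹ = b
  four : ∀ a : alternatingGroup (Fin m), a * a = 1 ∧ a ≠ 1 → ∀ b,
    (b * a = a * b ∧ b * b = 1 ∧ b ≠ 1 ∧ b ≠ a) → ∀ c, (c * a = a * c ∧ c * b = b * c) → c * c = 1
  noOddNormal : ∀ N : Subgroup (alternatingGroup (Fin m)), N.Normal →
    (∀ x ∈ N, x * x = 1 → x = 1) → N = ⊥

theorem smallFacts_four : SmallFacts 4 := by
  refine ⟨Or.inl (by rw [Nat.card_eq_fintype_card]; decide +kernel), by decide +kernel,
    by decide +kernel, by decide +kernel, fun N hN h => ?_⟩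
  have key : ∀ a : alternatingGroup (Fin 4), a ≠ 1 → ∃ b : alternatingGroup (Fin 4),
      (b * a * b⁻¹ * a⁻¹) * (b * a * b⁻¹ * a⁻¹) = 1 ∧ b * a * b⁻¹ * a⁻¹ ≠ 1 := by decide +kernel
  rw [eq_bot_iff]
  intro a ha
  rw [mem_bot]
  by_contra ha1
  obtain ⟨b, hb1, hb2⟩ := key a ha1
  exact hb2 (h _ (mul_mem (hN.conj_mem a ha b) (inv_mem ha)) hb1)

theorem smallFacts_five : SmallFacts 5 := by
  refine ⟨Or.inr (by rw [Nat.card_eq_fintype_card]; decide +kernel), by decide +kernel,
    by decide +kernel, by decide +kernel, fun N hN h => ?_⟩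
  haveI : IsSimpleGroup (alternatingGroup (Fin 5)) :=
    alternatingGroup.isSimpleGroup (α := Fin 5) (by simp)
  refine hN.eq_bot_or_eq_top.resolve_right fun hT => ?_
  obtain ⟨a, ha, ha1⟩ : ∃ a : alternatingGroup (Fin 5), a * a = 1 ∧ a ≠ 1 := by decide +kernel
  exact ha1 (h a (hT ▸ mem_top a) ha)

variable {G : Type*} [Group G] [Finite G] {m : ℕ}

namespace Data

variable (d : Data G m)

include d in
theorem facts : SmallFacts m := by
  have h1 := d.four_le
  have h2 := d.le_five
  rcases (show m = 4 ∨ m = 5 by omega) with rfl | rfl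
  exacts [smallFacts_four, smallFacts_five]

theorem mul_self_eq_one {t : G} (ht : orderOf t = 2) : t * t = 1 := by
  rw [← pow_two, ← ht, pow_orderOf_eq_one]

theorem exists_T_invol {x : G} (hx : orderOf x = 2) :
    ∃ (g : G) (hg : g * x * g⁻¹ ∈ d.T),
      d.e ⟨_, hg⟩ * d.e ⟨_, hg⟩ = 1 ∧ d.e ⟨_, hg⟩ ≠ 1 := by
  obtain ⟨g, -, hg⟩ := d.exists_conj_mem x hx
  refine ⟨g, hg, ?_, fun h => ?_⟩
  · rw [← map_mul, ← map_one d.e]
    refine congrArg d.e (Subtype.ext ?_)
    show g * x * g⁻¹ * (g * x * g⁻¹) = 1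
    rw [show g * x * g⁻¹ * (g * x * g⁻¹) = g * (x * x) * g⁻¹ by group, mul_self_eq_one hx]
    group
  · have h1 : g * x * g⁻¹ = 1 := congrArg Subtype.val ((map_eq_one_iff d.e d.e.injective).1 h)
    have : x = 1 := by
      have := congrArg (fun y => g⁻¹ * y * g) h1
      simpa [mul_assoc] using this
    rw [this, orderOf_one] at hx
    omega

/-- All involutions are conjugate to `J`. -/
theorem exists_conj_J (t : G) (ht : orderOf t = 2) : ∃ g : G, g * d.J * g⁻¹ = t := by
  obtain ⟨g, hg, a1, a2⟩ := d.exists_T_invol d.orderJ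
  obtain ⟨k, hk, b1, b2⟩ := d.exists_T_invol ht
  obtain ⟨c, hc⟩ := d.facts.conj _ _ a1 a2 b1 b2
  set s : d.T := d.e.symm c with hs
  have h : s * ⟨_, hg⟩ * s⁻¹ = ⟨_, hk⟩ := d.e.injective (by
    rw [map_mul, map_mul, map_inv, hs, MulEquiv.apply_symm_apply]; exact hc)
  have h' : (s : G) * (g * d.J * g⁻¹) * (s : G)⁻¹ = k * t * k⁻¹ := congrArg Subtype.val h
  refine ⟨k⁻¹ * s * g, ?_⟩
  calc k⁻¹ * s * g * d.J * (k⁻¹ * s * g)⁻¹ = k⁻¹ * ((s : G) * (g * d.J * g⁻¹) * (s : G)⁻¹) * k := by
        group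
    _ = t := by rw [h']; group

theorem card_cent_cases :
    Nat.card (centralizer ({d.J} : Set G)) = 24 ∨ Nat.card (centralizer ({d.J} : Set G)) = 120 := by
  rw [d.card_cent]
  rcases d.facts.card with h | h <;> rw [h] <;> simp

theorem card_S : Nat.card (d.S : Subgroup G) = 8 := by
  haveI : Fact (Nat.Prime 2) := ⟨Nat.prime_two⟩
  obtain ⟨k, hk⟩ := d.S.2.exists_card_eq
  have h1 := card_mul_relIndex d.sylow_le
  rw [hk] at h1
  have h2 : ¬ 2 ∣ (d.S : Subgroup G).relIndex (centralizer ({d.J} : Set G)) := fun h =>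
    d.S.not_dvd_index (h.trans (relIndex_dvd_index_of_le d.sylow_le))
  set r := (d.S : Subgroup G).relIndex (centralizer ({d.J} : Set G))
  rw [hk]
  have hk7 : k < 7 := by
    by_contra hk7
    have : 2 ^ 7 ∣ Nat.card (centralizer ({d.J} : Set G)) :=
      (Nat.pow_dvd_pow 2 (not_lt.1 hk7)).trans ⟨r, h1.symm⟩
    rcases d.card_cent_cases with h | h <;> rw [h] at this <;> norm_num at this
  rcases d.card_cent_cases with h | h <;> rw [h] at h1 <;> interval_cases k <;> omega

theorem sq_S {x : G} (hx : x ∈ (d.S : Subgroup G)) : x * x = 1 := by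
  have h8 : x ^ 8 = 1 := by
    have := congrArg Subtype.val (pow_card_eq_one' (x := (⟨x, hx⟩ : (d.S : Subgroup G))))
    rwa [d.card_S] at this
  have key : ∀ y : G, y ^ 8 = 1 → y ∈ d.T → y * y = 1 := by
    intro y hy hyT
    have h := d.facts.sq (d.e ⟨y, hyT⟩) (by
      rw [← map_pow, ← map_one d.e]; exact congrArg d.e (Subtype.ext hy))
    rw [← map_mul] at h
    exact congrArg Subtype.val ((map_eq_one_iff d.e d.e.injective).1 h)
  rcases (d.mem_iff x).1 (d.sylow_le hx) with h | h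
  · exact key x h8 h
  · have hc := d.commute_J (d.sylow_le hx)
    have h2 := key (d.J * x) (by
      rw [hc.mul_pow, h8, show (8 : ℕ) = 2 * 4 from rfl, pow_mul, pow_two, d.JJ, one_pow, one_mul]) h
    rw [hc.symm.mul_mul_mul_comm, d.JJ, one_mul] at h2
    exact h2

theorem comm_S {x y : G} (hx : x ∈ (d.S : Subgroup G)) (hy : y ∈ (d.S : Subgroup G)) :
    x * y = y * x := by
  have h := d.sq_S (mul_mem hx hy)
  have h1 := d.sq_S hx
  have h2 := d.sq_S hy
  calc x * y = x * (x * y * (x * y)) * y := by rw [h, mul_one]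
    _ = (x * x) * (y * x) * (y * y) := by group
    _ = y * x := by rw [h1, h2, one_mul, mul_one]

theorem commutative_S : IsMulCommutative (d.S : Subgroup G) :=
  ⟨⟨fun a b => Subtype.ext (d.comm_S a.2 b.2)⟩⟩

theorem orderOf_mem_S {x : G} (hx : x ∈ (d.S : Subgroup G)) (h1 : x ≠ 1) : orderOf x = 2 :=
  orderOf_eq_prime (p := 2) (hp := ⟨Nat.prime_two⟩) (by rw [pow_two]; exact d.sq_S hx) h1

/-- A four subgroup of the alternating factor inside the Sylow subgroup. -/
def four : Subgroup G := (d.S : Subgroup G) ⊓ d.T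

theorem card_four : Nat.card d.four = 4 := by
  have h := card_mul_relIndex (show d.four ≤ (d.S : Subgroup G) from inf_le_left)
  rw [four, d.relIndex_eq, d.card_S] at h
  rw [four]; omega

theorem exists_four_pair : ∃ a b : G, a ∈ d.four ∧ b ∈ d.four ∧ a ≠ 1 ∧ b ≠ 1 ∧ b ≠ a := by
  have := Fintype.ofFinite d.four
  have h : 2 < Fintype.card d.four := by rw [← Nat.card_eq_fintype_card, d.card_four]; omega
  obtain ⟨a, b, c, hab, hac, hbc⟩ := Fintype.two_lt_card_iff.1 h
  have h' : ∀ x y : d.four, x ≠ y → (x : G) ≠ y := fun x y hxy hh => hxy (Subtype.ext hh)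
  by_cases ha : (a : G) = 1
  · exact ⟨b, c, b.2, c.2, fun hb => h' a b hab (ha.trans hb.symm),
      fun hc => h' a c hac (ha.trans hc.symm), (h' b c hbc).symm⟩
  by_cases hb : (b : G) = 1
  · exact ⟨a, c, a.2, c.2, ha, fun hc => h' b c hbc (hb.trans hc.symm), (h' a c hac).symm⟩
  exact ⟨a, b, a.2, b.2, ha, hb, (h' a b hab).symm⟩

/-- The Sylow subgroup is self-centralising. -/
theorem centralizer_S : centralizer ((d.S : Subgroup G) : Set G) = (d.S : Subgroup G) := by
  have hle : (d.S : Subgroup G) ≤ centralizer ((d.S : Subgroup G) : Set G) := fun x hx =>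
    mem_centralizer_iff.2 fun y hy => d.comm_S hy hx
  refine d.S.is_maximal' ?_ hle
  intro x
  refine ⟨1, ?_⟩
  obtain ⟨c, hc⟩ := x
  refine Subtype.ext ?_
  show c ^ (2 ^ 1) = 1
  have hcomm : ∀ y ∈ (d.S : Subgroup G), c * y = y * c := fun y hy =>
    (mem_centralizer_iff.1 hc y hy).symm
  have hcC : c ∈ centralizer ({d.J} : Set G) :=
    mem_centralizer_singleton_iff.2 (hcomm _ d.mem_S)
  obtain ⟨a, b, ha, hb, ha1, hb1, hba⟩ := d.exists_four_pair
  have key : ∀ t : G, t ∈ d.T → t * a = a * t → t * b = b * t → t * t = 1 := by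
    intro t ht hta htb
    have hsq : ∀ y (hy : y ∈ d.four), d.e ⟨y, hy.2⟩ * d.e ⟨y, hy.2⟩ = 1 := fun y hy => by
      rw [← map_mul, ← map_one d.e]; exact congrArg d.e (Subtype.ext (d.sq_S hy.1))
    have hne : ∀ y (hy : y ∈ d.four), y ≠ 1 → d.e ⟨y, hy.2⟩ ≠ 1 := fun y hy hy1 h =>
      hy1 (congrArg Subtype.val ((map_eq_one_iff d.e d.e.injective).1 h))
    have hmap : ∀ (u v : G) (hu : u ∈ d.T) (hv : v ∈ d.T), u * v = v * u →
        d.e ⟨u, hu⟩ * d.e ⟨v, hv⟩ = d.e ⟨v, hv⟩ * d.e ⟨u, hu⟩ := fun u v hu hv h => by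
      rw [← map_mul, ← map_mul]; exact congrArg d.e (Subtype.ext h)
    have h := d.facts.four _ ⟨hsq a ha, hne a ha ha1⟩ _
      ⟨hmap b a hb.2 ha.2 (d.comm_S hb.1 ha.1), hsq b hb, hne b hb hb1,
        fun h => hba (congrArg Subtype.val (d.e.injective h))⟩
      (d.e ⟨t, ht⟩) ⟨hmap t a ht ha.2 hta, hmap t b ht hb.2 htb⟩
    rw [← map_mul] at h
    exact congrArg Subtype.val ((map_eq_one_iff d.e d.e.injective).1 h)
  rw [pow_one, pow_two]
  rcases (d.mem_iff c).1 hcC with h | h
  · exact key c h (hcomm a ha.1) (hcomm b hb.1)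
  · have h1 : ∀ y ∈ d.four, d.J * c * y = y * (d.J * c) := fun y hy => by
      rw [mul_assoc, hcomm y hy.1, ← mul_assoc, d.comm_S d.mem_S hy.1, mul_assoc]
    have h2 := key _ h (h1 a ha) (h1 b hb)
    rw [(d.commute_J hcC).symm.mul_mul_mul_comm, d.JJ, one_mul] at h2
    exact h2

/-- A nontrivial normal subgroup contains all involutions. -/
theorem J_mem_of_normal {K : Subgroup G} [K.Normal] (hK : K ≠ ⊥) : d.J ∈ K := by
  by_contra hJK
  have hno : ∀ x ∈ K, orderOf x ≠ 2 := by
    intro x hxK hx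
    obtain ⟨g, hg⟩ := d.exists_conj_J x hx
    apply hJK
    have := Subgroup.Normal.conj_mem inferInstance x hxK g⁻¹
    rwa [← hg, inv_inv, show g⁻¹ * (g * d.J * g⁻¹) * g = d.J by group] at this
  have hodd : Odd (Nat.card K) := by
    rw [← Nat.not_even_iff_odd]
    intro he
    haveI : Fact (Nat.Prime 2) := ⟨Nat.prime_two⟩
    obtain ⟨x, hx⟩ := exists_prime_orderOf_dvd_card' (G := K) 2 (even_iff_two_dvd.1 he)
    exact hno x x.2 ((Subgroup.orderOf_coe x).trans hx)
  haveI : IsMulCommutative d.four :=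
    ⟨⟨fun a b => Subtype.ext (d.comm_S a.2.1 b.2.1)⟩⟩
  have hnc : ¬ IsCyclic d.four := by
    intro hcyc
    obtain ⟨g, hg⟩ := IsCyclic.exists_ofOrder_eq_natCard (α := d.four)
    have h1 : orderOf g ≤ 2 := Nat.le_of_dvd (by norm_num)
      (orderOf_dvd_of_pow_eq_one (Subtype.ext (by rw [pow_two]; exact d.sq_S g.2.1)))
    rw [hg, d.card_four] at h1
    omega
  have hcop : (Nat.card d.four).Coprime (Nat.card K) := by
    rw [d.card_four, show (4 : ℕ) = 2 ^ 2 from rfl]
    exact Nat.Coprime.pow_left 2 (Nat.coprime_two_left.2 hodd)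
  have hgen := Coprime.iSup_centralizer_eq hnc
    (normalizer_eq_top (H := K) ▸ le_top : d.four ≤ normalizer (K : Set G)) hcop
  apply hK
  rw [← hgen]
  refine le_antisymm (iSup₂_le fun a ha => ?_) bot_le
  rintro y ⟨hyK, hy⟩
  rw [mem_bot]
  by_contra hy1
  obtain ⟨g, hg⟩ := d.exists_conj_J a (d.orderOf_mem_S ha.1.1 ha.2)
  set c : G := g⁻¹ * y * g with hc
  have hcK : c ∈ K := by
    have := Subgroup.Normal.conj_mem inferInstance y hyK g⁻¹
    rwa [inv_inv] at this
  have hc1 : c ≠ 1 := fun h => hy1 (by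
    have := congrArg (fun z => g * z * g⁻¹) h
    simpa [hc, mul_assoc] using this)
  have hcC : c ∈ centralizer ({d.J} : Set G) := by
    rw [mem_centralizer_singleton_iff, hc]
    have hya := mem_centralizer_singleton_iff.1 hy
    rw [← hg] at hya
    calc g⁻¹ * y * g * d.J = g⁻¹ * (y * (g * d.J * g⁻¹)) * g := by group
      _ = _ := by rw [hya]; group
  obtain ⟨r, hr⟩ := hodd
  have hcT : c ∈ d.T := by
    have h := congrArg Subtype.val (pow_card_eq_one' (x := (⟨c, hcK⟩ : K)))
    rw [hr] at h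
    have h' : c ^ (2 * r + 1) = 1 := h
    have h'' : c = ((c * c) ^ r)⁻¹ := by
      rw [← pow_two, ← pow_mul, eq_inv_iff_mul_eq_one, ← pow_succ']
      exact h'
    rw [h'']
    exact inv_mem (pow_mem (d.sq_mem hcC) r)
  have hN : ((K.subgroupOf d.T).map d.e.toMonoidHom) = ⊥ := by
    refine d.facts.noOddNormal _ (Subgroup.Normal.map inferInstance _ d.e.surjective) ?_
    rintro _ ⟨u, hu, rfl⟩ hsq
    by_contra h1
    refine hno (u : G) hu ?_
    rw [Subgroup.orderOf_coe, ← MulEquiv.orderOf_eq d.e]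
    exact orderOf_eq_prime (p := 2) (hp := ⟨Nat.prime_two⟩) (by rw [pow_two]; exact hsq) h1
  have h1 : d.e ⟨c, hcT⟩ ∈ (K.subgroupOf d.T).map d.e.toMonoidHom := ⟨⟨c, hcT⟩, hcK, rfl⟩
  rw [hN, mem_bot] at h1
  exact hc1 (congrArg Subtype.val ((map_eq_one_iff d.e d.e.injective).1 h1))

/-- The subgroup generated by the involutions. -/
def top2 : Subgroup G := normalClosure ({d.J} : Set G)

instance top2_normal : d.top2.Normal := normalClosure_normal

theorem J_mem_top2 : d.J ∈ d.top2 := subset_normalClosure rfl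

theorem invol_mem_top2 {t : G} (ht : orderOf t = 2) : t ∈ d.top2 := by
  obtain ⟨g, rfl⟩ := d.exists_conj_J t ht
  exact Subgroup.Normal.conj_mem inferInstance _ d.J_mem_top2 g

theorem S_le_top2 : (d.S : Subgroup G) ≤ d.top2 := fun x hx => by
  by_cases h : x = 1
  · rw [h]; exact one_mem _
  · exact d.invol_mem_top2 (d.orderOf_mem_S hx h)

theorem top2_le {K : Subgroup G} [K.Normal] (hK : K ≠ ⊥) : d.top2 ≤ K :=
  normalClosure_le_normal (Set.singleton_subset_iff.2 (d.J_mem_of_normal hK))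

theorem card_normalizer_stab :
    (centralizer ({d.J} : Set G)).relIndex (normalizer ((d.S : Subgroup G) : Set G)) = 7 := by
  set N : Subgroup G := normalizer ((d.S : Subgroup G) : Set G) with hN
  letI : MulAction N G :=
    MulAction.compHom G ((ConjAct.toConjAct : G ≃* ConjAct G).toMonoidHom.comp N.subtype)
  have hsmul : ∀ (n : N) (x : G), n • x = (n : G) * x * (n : G)⁻¹ := fun n x => rfl
  have hstab : MulAction.stabilizer N d.J = (centralizer ({d.J} : Set G)).subgroupOf N := by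
    ext n
    rw [MulAction.mem_stabilizer_iff, hsmul, mem_subgroupOf, mem_centralizer_singleton_iff,
      mul_inv_eq_iff_eq_mul]
  have horb : MulAction.orbit N d.J = ((d.S : Subgroup G) : Set G) \ {1} := by
    ext x
    constructor
    · rintro ⟨n, rfl⟩
      show (n • d.J) ∈ _
      rw [hsmul]
      refine ⟨(mem_normalizer_iff.1 n.2 d.J).1 d.mem_S, fun h => d.J_ne_one ?_⟩
      have := congrArg (fun z => (n : G)⁻¹ * z * n) (Set.mem_singleton_iff.1 h)
      simpa [mul_assoc] using this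
    · rintro ⟨hxS, hx1⟩
      obtain ⟨g, hg⟩ := d.exists_conj_J x (d.orderOf_mem_S hxS hx1)
      obtain ⟨v, hv, hv'⟩ := Transfer.Fusion.controls_of_isMulCommutative d.S d.commutative_S
        d.J d.mem_S g (hg ▸ hxS)
      exact ⟨⟨v, hv⟩, (hsmul _ _).trans (hv'.trans hg)⟩
  rw [relIndex, ← hstab, MulAction.index_stabilizer, horb,
    Set.ncard_diff_singleton_of_mem (SetLike.mem_coe.2 (one_mem _)), Nat.card_coe_set_eq _ |>.symm]
  show Nat.card (d.S : Subgroup G) - 1 = 7
  rw [d.card_S]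

/-- The subgroup generated by involutions is not commutative, when `G` is not solvable. -/
theorem top2_not_comm (hns : ¬ Group.IsSolvable G) : ¬ IsMulCommutative d.top2 := by
  intro hc
  have hcomm : ∀ a ∈ d.top2, ∀ b ∈ d.top2, a * b = b * a := fun a ha b hb =>
    congrArg Subtype.val (hc.is_comm.comm ⟨a, ha⟩ ⟨b, hb⟩)
  have heq : d.top2 = (d.S : Subgroup G) := by
    refine le_antisymm (fun x hx => ?_) d.S_le_top2
    rw [← d.centralizer_S]
    exact mem_centralizer_iff.2 fun y hy => hcomm y (d.S_le_top2 hy) x hx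
  haveI hnorm : (d.S : Subgroup G).Normal := heq ▸ d.top2_normal
  have hN : normalizer ((d.S : Subgroup G) : Set G) = ⊤ := normalizer_eq_top _
  have h7 := d.card_normalizer_stab
  rw [hN, relIndex_top_right] at h7
  have hcard : Nat.card G = Nat.card (centralizer ({d.J} : Set G)) * 7 := by
    rw [← h7, card_mul_index]
  have hq : ∀ r, Nat.card G = 8 * r → Nat.card (G ⧸ (d.S : Subgroup G)) = r := by
    intro r hr
    have := card_mul_index (d.S : Subgroup G)
    rw [d.card_S, hr] at this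
    rw [← index_eq_card]; omega
  have h1 := d.four_le
  have h2 := d.le_five
  rcases (show m = 4 ∨ m = 5 by omega) with rfl | rfl
  · rw [d.card_cent, Nat.card_eq_fintype_card (α := alternatingGroup (Fin 4)),
      show Fintype.card (alternatingGroup (Fin 4)) = 12 by decide +kernel] at hcard
    haveI : Group.IsSolvable (G ⧸ (d.S : Subgroup G)) :=
      Induced.Burnside.isSolvable_of_card_eq 3 7 1 1 Nat.prime_three (by norm_num)
        (by rw [hq 21 (by omega)]; norm_num)
    haveI : Group.IsSolvable (d.S : Subgroup G) :=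
      Induced.Burnside.isSolvable_of_card_eq 2 3 3 0 Nat.prime_two Nat.prime_three
        (by rw [d.card_S]; norm_num)
    refine hns (solvable_of_ker_le_range (d.S : Subgroup G).subtype
      (QuotientGroup.mk' (d.S : Subgroup G)) ?_)
    rw [QuotientGroup.ker_mk', Subgroup.range_subtype]
  · obtain ⟨a, ha, b, hb, hab⟩ : ∃ a : alternatingGroup (Fin 5), a * a = 1 ∧
        ∃ b, b * b = 1 ∧ a * b ≠ b * a := by decide +kernel
    have hmem : ∀ y : alternatingGroup (Fin 5), y * y = 1 → ((d.e.symm y : d.T) : G) ∈ d.top2 := by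
      intro y hy
      by_cases h : ((d.e.symm y : d.T) : G) = 1
      · rw [h]; exact one_mem _
      · refine d.invol_mem_top2 (orderOf_eq_prime (p := 2) (hp := ⟨Nat.prime_two⟩) ?_ h)
        rw [pow_two, ← Subgroup.coe_mul, ← map_mul, hy, map_one, OneMemClass.coe_one]
    refine hab (d.e.symm.injective ?_)
    rw [map_mul, map_mul]
    exact Subtype.ext (hcomm _ (hmem a ha) _ (hmem b hb))

theorem commutator_top2 (hns : ¬ Group.IsSolvable G) : ⁅d.top2, d.top2⁆ = d.top2 := by
  refine le_antisymm (commutator_le_left _ _) (d.top2_le fun h => d.top2_not_comm hns ?_)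
  rw [commutator_eq_bot_iff_le_centralizer] at h
  exact le_centralizer_iff_isMulCommutative.1 h

theorem top2_sup_cent (hns : ¬ Group.IsSolvable G) :
    d.top2 ⊔ centralizer ({d.J} : Set G) = ⊤ := by
  set N : Subgroup G := normalizer ((d.S : Subgroup G) : Set G) with hN
  set C : Subgroup G := centralizer ({d.J} : Set G) with hC
  set H : Subgroup N := d.top2.subgroupOf N with hH
  set A : Subgroup N := C.subgroupOf N with hA
  have hA7 : A.index = 7 := d.card_normalizer_stab
  have hdvd : (H ⊔ A).index ∣ 7 := hA7 ▸ index_dvd_of_le le_sup_right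
  rcases (Nat.dvd_prime (by norm_num)).1 hdvd with h | h
  · rw [index_eq_one] at h
    have hNle : N ≤ d.top2 ⊔ C := by
      intro n hn
      have : (⟨n, hn⟩ : N) ∈ H ⊔ A := h ▸ mem_top _
      obtain ⟨a, ha, b, hb, hab⟩ := mem_sup_of_normal_left.1 this
      have : n = (a : G) * b := congrArg Subtype.val hab.symm
      rw [this]
      exact mul_mem_sup ha hb
    have hfr := Sylow.normalizer_sup_eq_top' (N := d.top2) d.S d.S_le_top2
    rw [eq_top_iff, ← hfr]
    exact sup_le hNle le_sup_left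
  · exfalso
    have hHA : H ≤ A := by
      have h1 := relIndex_mul_index (show A ≤ H ⊔ A from le_sup_right)
      rw [h, hA7] at h1
      have h2 : A.relIndex (H ⊔ A) = 1 := by omega
      exact le_sup_left.trans (relIndex_eq_one.1 h2)
    -- `N_L(S)` then centralises `S`
    have hle : d.top2 ⊓ N ≤ (d.S : Subgroup G) := by
      intro x hx
      rw [← d.centralizer_S, mem_centralizer_iff]
      intro y hy
      by_cases hy1 : y = 1
      · simp [hy1]
      obtain ⟨g, hg⟩ := d.exists_conj_J y (d.orderOf_mem_S hy hy1)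
      obtain ⟨v, hv, hv'⟩ := Transfer.Fusion.controls_of_isMulCommutative d.S d.commutative_S
        d.J d.mem_S g (hg ▸ hy)
      have hxv : v⁻¹ * x * v ∈ d.top2 ⊓ N := ⟨by
        have := Subgroup.Normal.conj_mem inferInstance x hx.1 v⁻¹
        rwa [inv_inv] at this, N.mul_mem (N.mul_mem (N.inv_mem hv) hx.2) hv⟩
      have h3 : v⁻¹ * x * v ∈ C :=
        hHA (x := ⟨v⁻¹ * x * v, hxv.2⟩) hxv.1
      rw [hC, mem_centralizer_singleton_iff] at h3
      rw [← hg, ← hv']
      calc v * d.J * v⁻¹ * x = v * (d.J * (v⁻¹ * x * v)) * v⁻¹ := by group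
        _ = v * (v⁻¹ * x * v * d.J) * v⁻¹ := by rw [h3]
        _ = x * (v * d.J * v⁻¹) := by group
    haveI : Fact (Nat.Prime 2) := ⟨Nat.prime_two⟩
    set P := d.S.subtype d.S_le_top2 with hP
    have hPc : IsMulCommutative (P : Subgroup d.top2) :=
      ⟨⟨fun a b => Subtype.ext (Subtype.ext (d.comm_S a.2 b.2))⟩⟩
    have htr := Transfer.Fusion.commutator_inf_sylow_eq_of_controls P _ Subgroup.le_normalizer
      (fun x hx g hy => Transfer.Fusion.controls_of_isMulCommutative P hPc x hx g hy)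
    have hperf : commutator d.top2 = ⊤ := by
      rw [← (Subgroup.map_injective d.top2.subtype_injective).eq_iff, Subgroup.map_subtype_commutator,
        d.commutator_top2 hns, ← MonoidHom.range_eq_map, Subgroup.range_subtype]
    have hNP : normalizer ((P : Subgroup d.top2) : Set d.top2) ≤ (P : Subgroup d.top2) := by
      intro x hx
      refine hle ⟨x.2, ?_⟩
      show (x : G) ∈ normalizer ((d.S : Subgroup G) : Set G)
      rw [mem_normalizer_iff]
      intro s
      constructor
      · intro hs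
        exact (mem_normalizer_iff.1 hx ⟨s, d.S_le_top2 hs⟩).1 hs
      · intro hs
        have hsL : s ∈ d.top2 := by
          have := Subgroup.Normal.conj_mem (H := d.top2) inferInstance _ (d.S_le_top2 hs) (x : G)⁻¹
          rwa [inv_inv, show (x : G)⁻¹ * ((x : G) * s * (x : G)⁻¹) * x = s by group] at this
        exact (mem_normalizer_iff.1 hx ⟨s, hsL⟩).2 hs
    rw [hperf, top_inf_eq] at htr
    have hbot : (P : Subgroup d.top2) = ⊥ := by
      rw [htr]
      refine le_antisymm (inf_le_left.trans ?_) bot_le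
      refine (commutator_mono hNP hNP).trans ?_
      rw [le_bot_iff, commutator_eq_bot_iff_le_centralizer]
      exact le_centralizer_iff_isMulCommutative.2 hPc
    have : (⟨d.J, d.J_mem_top2⟩ : d.top2) ∈ (⊥ : Subgroup d.top2) := hbot ▸ d.mem_S
    exact d.J_ne_one (congrArg Subtype.val (mem_bot.1 this))

theorem exists_conj_J_top2 (hns : ¬ Group.IsSolvable G) (t : G) (ht : orderOf t = 2) :
    ∃ l ∈ d.top2, l * d.J * l⁻¹ = t := by
  obtain ⟨g, hg⟩ := d.exists_conj_J t ht
  have : g ∈ d.top2 ⊔ centralizer ({d.J} : Set G) := d.top2_sup_cent hns ▸ mem_top g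
  obtain ⟨l, hl, c, hc, rfl⟩ := mem_sup_of_normal_left.1 this
  refine ⟨l, hl, ?_⟩
  rw [← hg]
  have := d.commute_J hc
  calc l * d.J * l⁻¹ = l * (d.J * c * c⁻¹) * l⁻¹ := by group
    _ = l * c * d.J * (l * c)⁻¹ := by rw [this.eq]; group

theorem isSimpleGroup_top2 (hns : ¬ Group.IsSolvable G) : IsSimpleGroup d.top2 := by
  haveI : Nontrivial d.top2 := ⟨⟨⟨d.J, d.J_mem_top2⟩, 1, fun h => d.J_ne_one (congrArg Subtype.val h)⟩⟩
  refine ⟨fun K hK => ?_⟩
  by_cases he : Even (Nat.card K)
  · right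
    haveI : Fact (Nat.Prime 2) := ⟨Nat.prime_two⟩
    obtain ⟨x, hx⟩ := exists_prime_orderOf_dvd_card' (G := K) 2 (even_iff_two_dvd.1 he)
    set a : G := ((x : d.top2) : G) with ha
    have ha2 : orderOf a = 2 := by rw [ha, Subgroup.orderOf_coe, Subgroup.orderOf_coe, hx]
    have hall : ∀ t : G, orderOf t = 2 → t ∈ K.map d.top2.subtype := by
      intro t ht
      obtain ⟨l, hl, hl'⟩ := d.exists_conj_J_top2 hns t ht
      obtain ⟨k, hk, hk'⟩ := d.exists_conj_J_top2 hns a ha2
      refine ⟨⟨l * k⁻¹, mul_mem hl (inv_mem hk)⟩ * x * ⟨l * k⁻¹, mul_mem hl (inv_mem hk)⟩⁻¹,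
        hK.conj_mem _ x.2 _, ?_⟩
      show (l * k⁻¹) * a * (l * k⁻¹)⁻¹ = t
      rw [← hk', ← hl']; group
    have hsub : Group.conjugatesOfSet ({d.J} : Set G) ⊆ (K.map d.top2.subtype : Subgroup G) := by
      intro y hy
      obtain ⟨j, hj, hy⟩ := Group.mem_conjugatesOfSet_iff.1 hy
      obtain ⟨g, rfl⟩ := isConj_iff.1 hy
      rw [Set.mem_singleton_iff.1 hj]
      refine hall _ ?_
      rw [← d.orderJ]
      exact (SemiconjBy.orderOf_eq g (show SemiconjBy g d.J (g * d.J * g⁻¹) by
        simp [SemiconjBy])).symm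
    have hle : d.top2 ≤ K.map d.top2.subtype := (closure_le _).2 hsub
    rw [eq_top_iff]
    intro y _
    obtain ⟨k, hk, hk'⟩ := hle y.2
    rwa [← d.top2.subtype_injective hk']
  · left
    haveI : Fact (Nat.Prime 2) := ⟨Nat.prime_two⟩
    have hle : K ≤ Cfsg.pPrimeCore 2 d.top2 :=
      Cores.le_pPrimeCore (Nat.coprime_comm.1
        ((Nat.prime_two.coprime_iff_not_dvd).2 fun h => he (even_iff_two_dvd.2 h)))
    by_contra hKne
    haveI := Cores.normal_map_subtype d.top2 (Cfsg.pPrimeCore 2 d.top2)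
    have hne : (Cfsg.pPrimeCore 2 d.top2).map d.top2.subtype ≠ ⊥ := fun h =>
      hKne (le_bot_iff.1 (hle.trans
        ((map_eq_bot_iff_of_injective _ d.top2.subtype_injective).1 h).le))
    obtain ⟨k, hk, hk'⟩ := d.J_mem_of_normal hne
    refine Cores.not_dvd_card_pPrimeCore (G := d.top2) 2 ?_
    have h2 : orderOf (⟨k, hk⟩ : Cfsg.pPrimeCore 2 d.top2) = 2 := by
      rw [← Subgroup.orderOf_coe, ← Subgroup.orderOf_coe]
      show orderOf (d.top2.subtype k) = 2
      rw [hk', d.orderJ]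
    exact h2.symm.dvd.trans (orderOf_dvd_natCard _)

end Data

end Cfsg.Agent.Lib.TwoTimesAlt
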